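import Mathlib

/-!
# Arithmetic for one class of elements of order three
-/

set_option autoImplicit false

namespace Cfsg.Agent.Lib.NineTwoQ78.OneClass.Arith

theorem no_q {X Y P : ℕ} (hX : 8 ≤ X) (hY : 125 ≤ Y) (hmod : (X * Y) % 3 = 2)
    (hb : X * Y ≤ 48 * (7 + P)) (hY289 : Y = 125 ∨ 289 ≤ Y)
    (hP : P ≤ 18 ∨ 2 * P ≤ 3 * X ∨ (X % 3 = 1 ∧ P ≤ 6 * (X - 1))) :
    X % 3 = 1 ∧ P ≤ 6 * (X - 1) ∧ Y % 3 = 2 ∧ Y ≤ 294 := by
  rcases hP with h | h | ⟨h, h'⟩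
  · exfalso
    rcases hY289 with rfl | h289
    · have : X ≤ 9 := by omega
      interval_cases X <;> omega
    · nlinarith
  · exfalso
    nlinarith
  · rw [Nat.mul_mod, h, one_mul, Nat.mod_mod] at hmod
    refine ⟨h, h', hmod, ?_⟩
    by_contra hc
    have h1 : X * 295 ≤ X * Y := Nat.mul_le_mul_left X (by omega)
    omega

theorem eq_125 {q b : ℕ} (hq : q.Prime) (hq5 : 5 ≤ q) (hb : 2 ≤ b) (h1 : 289 ≤ q ^ b)
    (h2 : q ^ b ≤ 294) (h3 : q ^ b % 3 = 2) : False := by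
  have hb3 : b ≤ 3 := by
    by_contra hc
    have : 5 ^ 4 ≤ q ^ b := (Nat.pow_le_pow_left hq5 4).trans (Nat.pow_le_pow_right hq.pos (by omega))
    norm_num at this
    omega
  have hq17 : q ≤ 17 := by
    by_contra hc
    have : 18 ^ 2 ≤ q ^ b := (Nat.pow_le_pow_left (by omega) 2).trans (Nat.pow_le_pow_right hq.pos hb)
    norm_num at this
    omega
  interval_cases q <;> interval_cases b <;> revert h1 h2 h3 hq <;> norm_num

theorem bound_zero {X Y P w : ℕ} (hY : 289 ≤ Y) (hb : X * Y ≤ 48 * (7 + (P + w)))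
    (hP : P ≤ 18 ∨ 2 * P ≤ 3 * X) (hw : w ≤ 6 * (Y - 1)) : X < 512 := by
  by_contra hc
  obtain ⟨x, rfl⟩ : ∃ x, X = 512 + x := ⟨X - 512, by omega⟩
  obtain ⟨y, rfl⟩ : ∃ y, Y = 289 + y := ⟨Y - 289, by omega⟩
  have : w ≤ 6 * (288 + y) := by omega
  rcases hP with h | h <;> nlinarith

theorem bound_two {X Y P w : ℕ} (hY : 289 ≤ Y) (hb : X * Y ≤ 48 * (7 + (P + w)))
    (hP : P ≤ 18 ∨ 2 * P ≤ 3 * X) (hw : w ≤ 3 * (4 * Y - 1)) : X < 2048 := by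
  by_contra hc
  obtain ⟨x, rfl⟩ : ∃ x, X = 2048 + x := ⟨X - 2048, by omega⟩
  obtain ⟨y, rfl⟩ : ∃ y, Y = 289 + y := ⟨Y - 289, by omega⟩
  have : w ≤ 3 * (4 * (289 + y)) := by omega
  rcases hP with h | h <;> nlinarith

theorem list {q a n : ℕ} (hq : q.Prime) (hq5 : 5 ≤ q) (ha3 : 3 ≤ a) (hmod : 2 ^ a % 3 = 2)
    (h : (2 ^ a < 512 ∧ (n = 3 * 2 ^ a ∨ 2 * n = 3 * 2 ^ a)) ∨
      (2 ^ a < 2048 ∧ 8 * n = 3 * 2 ^ a))
    (hn : q ^ 2 ≤ n) (h1 : n % q = 1) : q = 5 ∧ n = 96 ∧ a = 5 := by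
  have ha : a ≤ 10 := by
    by_contra hc
    have : 2 ^ 11 ≤ 2 ^ a := Nat.pow_le_pow_right two_pos (by omega)
    omega
  have hq20 : q ≤ 19 := by
    by_contra hc
    have : 20 ^ 2 ≤ q ^ 2 := Nat.pow_le_pow_left (by omega) 2
    interval_cases a <;> omega
  interval_cases a <;> norm_num at h hmod <;> interval_cases q <;>
    (try norm_num at hq) <;> omega

end Cfsg.Agent.Lib.NineTwoQ78.OneClass.Arith
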