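import Cfsg.Agent.Lib.NineTwoQ78.OneClass.Setup
import Cfsg.Agent.Lib.H80.ClassMult
import Cfsg.Agent.Lib.PrincipalCore.Rational

/-!
# The column of an element of order three
-/

set_option autoImplicit false
set_option linter.style.haveILetI false

namespace Cfsg.Agent.Lib.NineTwoQ78.OneClass

open Subgroup
open Cfsg.Agent.Lib Cfsg.Agent.Lib.Characters.Basic Cfsg.Agent.Lib.Characters.Complete
open scoped ComplexConjugate

universe u

variable {G : Type u} [Group G] [Finite G] {q a b : ℕ} {R : Sylow 3 G}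

/-- Values and degrees in the column of `k`. -/
structure Col (H : Hyp G q a b R) (k : G) (c : Cfsg.IrrCharacter G → ℤ)
    (d : Cfsg.IrrCharacter G → ℕ) : Prop where
  ord : orderOf k = 3
  val : ∀ χ : Cfsg.IrrCharacter G, (χ : G → ℂ) k = c χ
  deg : ∀ χ : Cfsg.IrrCharacter G, d χ = Cfsg.charDegree (χ : G → ℂ)
  pos : ∀ χ, 0 < d χ
  one_c : c (oneChar G) = 1
  one_d : d (oneChar G) = 1
  cong : ∀ χ, ∃ n : ℕ, (d χ : ℤ) + 8 * c χ = 9 * n
  big : ∀ χ, χ ≠ oneChar G → 1 < d χ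
  dvd : ∀ χ, ¬ (3 : ℤ) ∣ c χ → d χ ∣ 2 ^ a * q ^ b
  sq : ∀ [Fintype (Cfsg.IrrCharacter G)], ∑ χ, c χ ^ 2 = 9
  degsum : ∀ [Fintype (Cfsg.IrrCharacter G)], ∑ χ, c χ * (d χ : ℤ) = 0

theorem Hyp.exists_col (H : Hyp G q a b R) {k : G} (hk : orderOf k = 3) :
    ∃ c d, Col H k c d := by
  classical
  haveI := Fintype.ofFinite G
  haveI := H.simple
  have hk3 : k ^ 3 = 1 := hk ▸ pow_orderOf_eq_one k
  have hk1 : k ≠ 1 := fun e => by simp [e] at hk
  have hint : ∀ χ : Cfsg.IrrCharacter G, ∃ m : ℤ, (m : ℂ) = (χ : G → ℂ) k := by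
    intro χ
    refine BC78.Galois.exists_int_of_fixed (isIntegral_apply (isCharacter_irr χ) k) fun σ => ?_
    obtain ⟨j, hj, hσ⟩ := BC78.Galois.exists_exponent_char (G := G) σ
    rw [hσ _ (isCharacter_irr χ) k]
    refine classFunction_apply_of_isConj (isClassFunction_irr χ) ?_
    refine H.one _ _ ?_ hk
    rw [Nat.Coprime.orderOf_pow, hk]
    exact (hj.coprime_dvd_right (orderOf_dvd_natCard k)).symm
  choose c hc using hint
  have hperf := SmallGroups.Sylow.commutator_eq_top H.noncomm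
  haveI := Fintype.ofFinite (R : Subgroup G)
  have hcong : ∀ χ : Cfsg.IrrCharacter G, ∃ n : ℕ,
      (Cfsg.charDegree (χ : G → ℂ) : ℤ) + 8 * c χ = 9 * n := by
    intro χ
    obtain ⟨n, hn⟩ := H80.ClassMult.exists_sum_subgroup χ (R : Subgroup G)
    refine ⟨n, ?_⟩
    rw [← Finset.add_sum_erase _ _ (Finset.mem_univ (1 : (R : Subgroup G))),
      Finset.sum_congr rfl (g := fun _ => (c χ : ℂ)) fun y hy => ?_, Finset.sum_const,
      Finset.card_erase_of_mem (Finset.mem_univ _), Finset.card_univ, ← Nat.card_eq_fintype_card,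
      H.card_sylow R, OneMemClass.coe_one, DegreeBounds.Basic.charDegree_irr, nsmul_eq_mul] at hn
    · exact_mod_cast hn
    · rw [hc]
      refine classFunction_apply_of_isConj (isClassFunction_irr χ) (H.one _ _ ?_ hk)
      exact H.orderOf_of_mem y.2 fun e => Finset.ne_of_mem_erase hy (Subtype.ext e)
  refine ⟨c, fun χ => Cfsg.charDegree (χ : G → ℂ), hk, fun χ => (hc χ).symm, fun χ => rfl,
    DegreeBounds.Basic.charDegree_pos, ?_, ?_, hcong, fun χ hχ => ?_, fun χ h3 => ?_, ?_, ?_⟩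
  · have : (c (oneChar G) : ℂ) = ((1 : ℤ) : ℂ) := by rw [hc, oneChar_apply]; simp
    exact_mod_cast this
  · simp [Cfsg.charDegree, oneChar_apply]
  · have := DegreeBounds.Basic.charDegree_pos χ
    by_contra h
    exact hχ (FirstPower.Consequences.charDegree_eq_one_of_perfect hperf χ (by omega))
  · obtain ⟨n, hn⟩ := hcong χ
    have hd : ¬ 3 ∣ Cfsg.charDegree (χ : G → ℂ) := fun h => h3 (by
      have : (3 : ℤ) ∣ (Cfsg.charDegree (χ : G → ℂ) : ℤ) := Int.natCast_dvd_natCast.2 h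
      omega)
    have := DegreeBounds.Basic.charDegree_dvd χ
    rw [H.card, mul_assoc, show 9 = 3 ^ 2 by norm_num] at this
    exact ((Nat.prime_three.coprime_iff_not_dvd.2 hd).symm.pow_right 2).dvd_of_dvd_mul_left this
  · intro hI
    have e := sum_irr_mul_conj (G := G) k k
    rw [if_pos (IsConj.refl k), (H.centralizer_spec hk).1] at e
    have : ((∑ χ, c χ ^ 2 : ℤ) : ℂ) = ((9 : ℤ) : ℂ) := by
      push_cast
      rw [show ((9 : ℂ)) = ((9 : ℕ) : ℂ) by norm_num, ← e]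
      exact Finset.sum_congr rfl fun χ _ => by rw [← hc, map_intCast, sq]
    exact_mod_cast this
  · intro hI
    have e := sum_irr_mul_conj (G := G) k 1
    rw [if_neg (fun e => hk1 (isConj_one_left.1 e))] at e
    have : ((∑ χ, c χ * (Cfsg.charDegree (χ : G → ℂ) : ℤ) : ℤ) : ℂ) = ((0 : ℤ) : ℂ) := by
      push_cast
      rw [← e]
      refine Finset.sum_congr rfl fun χ _ => ?_
      rw [← hc, DegreeBounds.Basic.charDegree_irr, Complex.conj_natCast]
    exact_mod_cast this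

namespace Col

variable {H : Hyp G q a b R} {k : G} {c : Cfsg.IrrCharacter G → ℤ}
  {d : Cfsg.IrrCharacter G → ℕ} (K : Col H k c d) [Fintype (Cfsg.IrrCharacter G)]
include K

theorem prime_dvd {χ : Cfsg.IrrCharacter G} (h3 : ¬ (3 : ℤ) ∣ c χ) {p : ℕ} (hp : p.Prime)
    (hd : p ∣ d χ) : p = 2 ∨ p = q := by
  rcases hp.dvd_mul.1 (hd.trans (K.dvd χ h3)) with h | h
  · exact Or.inl ((Nat.prime_dvd_prime_iff_eq hp Nat.prime_two).1 (hp.dvd_of_dvd_pow h))
  · exact Or.inr ((Nat.prime_dvd_prime_iff_eq hp H.prime).1 (hp.dvd_of_dvd_pow h))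

theorem sum_split (f : Cfsg.IrrCharacter G → ℚ) [DecidableEq (Cfsg.IrrCharacter G)]
    (h0 : ∀ χ, c χ = 0 → f χ = 0) :
    ∑ χ, f χ = f (oneChar G) +
      ∑ χ ∈ (Finset.univ.erase (oneChar G)).filter (fun χ => c χ ≠ 0), f χ := by
  rw [← Finset.add_sum_erase _ _ (Finset.mem_univ (oneChar G)), Finset.sum_filter]
  congr 1
  refine Finset.sum_congr rfl fun χ _ => ?_
  split_ifs with h
  · rfl
  · exact h0 χ (not_not.1 h)

theorem sq_rest [DecidableEq (Cfsg.IrrCharacter G)] :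
    ∑ χ ∈ (Finset.univ.erase (oneChar G)).filter (fun χ => c χ ≠ 0), c χ ^ 2 = 8 := by
  have h : (∑ χ, (c χ : ℚ) ^ 2) = 9 := by exact_mod_cast K.sq
  rw [K.sum_split _ (fun χ e => by simp [e]), K.one_c] at h
  have : ((∑ χ ∈ (Finset.univ.erase (oneChar G)).filter (fun χ => c χ ≠ 0), c χ ^ 2 : ℤ) : ℚ) =
      ((8 : ℤ) : ℚ) := by push_cast at h ⊢; linarith
  exact_mod_cast this

theorem degsum_rest [DecidableEq (Cfsg.IrrCharacter G)] :
    ∑ χ ∈ (Finset.univ.erase (oneChar G)).filter (fun χ => c χ ≠ 0), c χ * (d χ : ℤ) = -1 := by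
  have h : (∑ χ, (c χ : ℚ) * (d χ : ℚ)) = 0 := by exact_mod_cast K.degsum
  rw [K.sum_split _ (fun χ e => by simp [e]), K.one_c, K.one_d] at h
  have : ((∑ χ ∈ (Finset.univ.erase (oneChar G)).filter (fun χ => c χ ≠ 0), c χ * (d χ : ℤ) : ℤ) : ℚ) =
      ((-1 : ℤ) : ℚ) := by push_cast at h ⊢; linarith
  exact_mod_cast this

theorem bounds {χ : Cfsg.IrrCharacter G} (hχ : χ ≠ oneChar G) :
    -2 ≤ c χ ∧ c χ ≤ 2 ∧ (c χ < 0 → -8 * c χ ≤ (d χ : ℤ)) ∧ (c χ ≠ 0 → ¬ (3 : ℤ) ∣ c χ) := by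
  classical
  have hle : c χ ^ 2 ≤ 8 := by
    by_cases h0 : c χ = 0
    · simp [h0]
    · rw [← K.sq_rest]
      exact Finset.single_le_sum (fun ψ _ => sq_nonneg (c ψ))
        (Finset.mem_filter.2 ⟨Finset.mem_erase.2 ⟨hχ, Finset.mem_univ _⟩, h0⟩)
  have h1 : -2 ≤ c χ := by nlinarith
  have h2 : c χ ≤ 2 := by nlinarith
  obtain ⟨n, hn⟩ := K.cong χ
  exact ⟨h1, h2, fun _ => by omega, fun h0 h3 => by omega⟩

/-- Some nontrivial character of odd degree takes the value `±1` at `k`. -/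
theorem exists_odd : ∃ χ : Cfsg.IrrCharacter G, χ ≠ oneChar G ∧ (c χ = 1 ∨ c χ = -1) ∧
    ∃ j, 1 ≤ j ∧ j ≤ b ∧ d χ = q ^ j ∧ (q ^ j % 9 = 1 ∨ q ^ j % 9 = 8) := by
  classical
  obtain ⟨χ, hχ, hodd⟩ : ∃ χ ∈ (Finset.univ.erase (oneChar G)).filter (fun χ => c χ ≠ 0),
      ¬ 2 ∣ c χ * (d χ : ℤ) := by
    by_contra h
    simp only [not_exists, not_and, not_not] at h
    have h2 := Finset.dvd_sum (f := fun χ => c χ * (d χ : ℤ)) (a := 2) h
    rw [K.degsum_rest] at h2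
    norm_num at h2
  obtain ⟨hχ1, hc0⟩ := Finset.mem_filter.1 hχ
  have hne := (Finset.mem_erase.1 hχ1).1
  obtain ⟨l, u, -, h3⟩ := K.bounds hne
  have hc : c χ = 1 ∨ c χ = -1 := by
    have hcodd : ¬ 2 ∣ c χ := fun h => hodd (dvd_mul_of_dvd_left h _)
    omega
  have hd2 : ¬ 2 ∣ d χ := fun h => hodd (dvd_mul_of_dvd_right (Int.natCast_dvd_natCast.2 h) _)
  obtain ⟨j, hj, hdj⟩ := (Nat.dvd_prime_pow H.prime).1
    (((Nat.prime_two.coprime_iff_not_dvd.2 hd2).symm.pow_right a).dvd_of_dvd_mul_left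
      (K.dvd χ (h3 hc0)))
  refine ⟨χ, hne, hc, j, Nat.one_le_iff_ne_zero.2 fun e => ?_, hj, hdj, ?_⟩
  · have := K.big χ hne
    rw [hdj, e, pow_zero] at this
    exact lt_irrefl 1 this
  · obtain ⟨n, hn⟩ := K.cong χ
    rw [← hdj]
    rcases hc with e | e <;> rw [e] at hn <;> omega

/-- The weighted sum of cubes is at least three sixteenths. -/
theorem sum_cubes_ge : (3 / 16 : ℚ) ≤ ∑ χ, (c χ : ℚ) ^ 3 / d χ := by
  classical
  set T := (Finset.univ.erase (oneChar G)).filter (fun χ => c χ ≠ 0) with hT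
  rw [K.sum_split _ (fun χ e => by simp [e]), ← hT, K.one_c, K.one_d]
  set N := T.filter fun χ => c χ < 0
  set P := T.filter fun χ => ¬ c χ < 0
  have hmem : ∀ χ ∈ T, χ ≠ oneChar G ∧ c χ ≠ 0 := fun χ hχ =>
    ⟨(Finset.mem_erase.1 (Finset.mem_filter.1 hχ).1).1, (Finset.mem_filter.1 hχ).2⟩
  have hPpos : ∀ χ ∈ P, 1 ≤ c χ := fun χ hχ => by
    obtain ⟨h1, h2⟩ := Finset.mem_filter.1 hχ
    have := (hmem χ h1).2
    omega
  have hNneg : ∀ χ ∈ N, c χ < 0 ∧ -2 ≤ c χ ∧ -8 * c χ ≤ (d χ : ℤ) := fun χ hχ => by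
    obtain ⟨h1, h2⟩ := Finset.mem_filter.1 hχ
    obtain ⟨l, -, hd, -⟩ := K.bounds (hmem χ h1).1
    exact ⟨h2, l, hd h2⟩
  have hPne : P.Nonempty := by
    rw [Finset.nonempty_iff_ne_empty]
    intro hP
    have hsum := K.degsum_rest
    rw [← hT, ← Finset.sum_filter_add_sum_filter_not T (fun χ => c χ < 0),
      show T.filter (fun χ => ¬ c χ < 0) = ∅ from hP, Finset.sum_empty, add_zero] at hsum
    obtain ⟨χ, hχ⟩ : N.Nonempty := by
      rw [Finset.nonempty_iff_ne_empty]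
      intro hN
      change N.sum _ = _ at hsum
      rw [hN] at hsum
      simp at hsum
    have h1 := Finset.single_le_sum (s := N) (f := fun χ => -(c χ * (d χ : ℤ)))
      (fun ψ hψ => by obtain ⟨a, b, e⟩ := hNneg ψ hψ; nlinarith) hχ
    simp only [Finset.sum_neg_distrib] at h1
    change N.sum _ = _ at hsum
    obtain ⟨x, y, z⟩ := hNneg χ hχ
    rw [hsum] at h1
    nlinarith
  have hsq := K.sq_rest
  rw [← hT, ← Finset.sum_filter_add_sum_filter_not T (fun χ => c χ < 0)] at hsq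
  change N.sum _ + P.sum _ = 8 at hsq
  have hP1 : 1 ≤ ∑ χ ∈ P, c χ ^ 2 := by
    obtain ⟨χ, hχ⟩ := hPne
    refine le_trans ?_ (Finset.single_le_sum (fun ψ _ => sq_nonneg (c ψ)) hχ)
    nlinarith [hPpos χ hχ]
  have hterm : ∀ χ ∈ N, -((c χ : ℚ) ^ 2) / 8 ≤ (c χ : ℚ) ^ 3 / d χ ∧
      ((d χ : ℤ) = -8 * c χ ∨ -((c χ : ℚ) ^ 2) / 8 + 1 / 16 ≤ (c χ : ℚ) ^ 3 / d χ) := by
    intro χ hχ
    obtain ⟨hneg, hlo, hd⟩ := hNneg χ hχ
    obtain ⟨n, hn⟩ := K.cong χ
    have hdq : (0 : ℚ) < d χ := by exact_mod_cast K.pos χ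
    rcases (by omega : c χ = -1 ∨ c χ = -2) with e | e
    · have h8 : (8 : ℚ) ≤ d χ := by
        have : (8 : ℤ) ≤ d χ := by omega
        exact_mod_cast this
      refine ⟨?_, ?_⟩
      · rw [e, le_div_iff₀ hdq]; push_cast; linarith
      · by_cases h : (d χ : ℤ) = -8 * c χ
        · exact Or.inl h
        · right
          have : (17 : ℚ) ≤ d χ := by
            have : (17 : ℤ) ≤ d χ := by omega
            exact_mod_cast this
          rw [e, le_div_iff₀ hdq]; push_cast; linarith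
    · have h8 : (16 : ℚ) ≤ d χ := by
        have : (16 : ℤ) ≤ d χ := by omega
        exact_mod_cast this
      refine ⟨?_, ?_⟩
      · rw [e, le_div_iff₀ hdq]; push_cast; linarith
      · by_cases h : (d χ : ℤ) = -8 * c χ
        · exact Or.inl h
        · right
          have : (25 : ℚ) ≤ d χ := by
            have : (25 : ℤ) ≤ d χ := by omega
            exact_mod_cast this
          rw [e, le_div_iff₀ hdq]; push_cast; linarith
  have hPterm : 0 ≤ ∑ χ ∈ P, (c χ : ℚ) ^ 3 / d χ := Finset.sum_nonneg fun χ hχ => by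
    have : (0 : ℚ) ≤ c χ := by exact_mod_cast le_trans zero_le_one (hPpos χ hχ)
    positivity
  have hsqQ : (∑ χ ∈ N, (c χ : ℚ) ^ 2) + ((∑ χ ∈ P, c χ ^ 2 : ℤ) : ℚ) = 8 := by
    exact_mod_cast hsq
  have hNsum : -(∑ χ ∈ N, (c χ : ℚ) ^ 2) / 8 ≤ ∑ χ ∈ N, (c χ : ℚ) ^ 3 / d χ := by
    rw [neg_div, Finset.sum_div, ← Finset.sum_neg_distrib]
    exact Finset.sum_le_sum fun χ hχ => (neg_div _ _).symm.trans_le (hterm χ hχ).1
  rw [← Finset.sum_filter_add_sum_filter_not T (fun χ => c χ < 0)]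
  show (3 / 16 : ℚ) ≤ ((1 : ℤ) : ℚ) ^ 3 / ((1 : ℕ) : ℚ) + (N.sum _ + P.sum _)
  by_cases h2 : 2 ≤ ∑ χ ∈ P, c χ ^ 2
  · have : (2 : ℚ) ≤ ((∑ χ ∈ P, c χ ^ 2 : ℤ) : ℚ) := by exact_mod_cast h2
    push_cast at this hsqQ ⊢
    linarith
  have hP1' : ∑ χ ∈ P, c χ ^ 2 = 1 := by omega
  obtain ⟨ψ, hψ⟩ := hPne
  have hψ1 : c ψ = 1 := by
    have := Finset.single_le_sum (fun ψ _ => sq_nonneg (c ψ)) hψ
    nlinarith [hPpos ψ hψ]
  have hPs : P = {ψ} := by
    refine Finset.eq_singleton_iff_unique_mem.2 ⟨hψ, fun x hx => ?_⟩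
    by_contra hne
    have := Finset.sum_le_sum_of_subset_of_nonneg (f := fun χ => c χ ^ 2)
      (s := {x, ψ}) (t := P) (by intro y hy; simp at hy; rcases hy with rfl | rfl <;> assumption)
      (fun y _ _ => sq_nonneg _)
    rw [Finset.sum_pair hne, hψ1, hP1'] at this
    nlinarith [hPpos x hx]
  by_cases hall : ∀ χ ∈ N, (d χ : ℤ) = -8 * c χ
  · exfalso
    have hdeg := K.degsum_rest
    rw [← hT, ← Finset.sum_filter_add_sum_filter_not T (fun χ => c χ < 0)] at hdeg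
    change N.sum _ + P.sum _ = -1 at hdeg
    rw [hPs, Finset.sum_singleton, hψ1, one_mul,
      Finset.sum_congr rfl fun χ hχ => show c χ * (d χ : ℤ) = -8 * c χ ^ 2 by rw [hall χ hχ]; ring,
      ← Finset.mul_sum] at hdeg
    have hd55 : d ψ = 55 := by omega
    have h3 : ¬ (3 : ℤ) ∣ c ψ := by rw [hψ1]; norm_num
    rcases K.prime_dvd h3 (by norm_num : Nat.Prime 5) (by rw [hd55]; norm_num) with e | e
    · norm_num at e
    rcases K.prime_dvd h3 (by norm_num : Nat.Prime 11) (by rw [hd55]; norm_num) with e' | e'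
    · norm_num at e'
    omega
  · push Not at hall
    obtain ⟨χ₀, hχ₀, hne⟩ := hall
    have himp := ((hterm χ₀ hχ₀).2.resolve_left hne)
    have hN' : -(∑ χ ∈ N, (c χ : ℚ) ^ 2) / 8 + 1 / 16 ≤ ∑ χ ∈ N, (c χ : ℚ) ^ 3 / d χ := by
      rw [← Finset.add_sum_erase _ _ hχ₀, ← Finset.add_sum_erase _ _ hχ₀]
      have hrest : -(∑ χ ∈ N.erase χ₀, (c χ : ℚ) ^ 2) / 8 ≤
          ∑ χ ∈ N.erase χ₀, (c χ : ℚ) ^ 3 / d χ := by
        rw [neg_div, Finset.sum_div, ← Finset.sum_neg_distrib]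
        exact Finset.sum_le_sum fun χ hχ =>
          (neg_div _ _).symm.trans_le (hterm χ (Finset.mem_of_mem_erase hχ)).1
      linarith
    rw [hP1'] at hsqQ
    push_cast at hsqQ ⊢
    linarith

end Col

end Cfsg.Agent.Lib.NineTwoQ78.OneClass
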