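import Cfsg.Agent.Lib.NineTwoQ78.OneClass.Triangle

/-!
# The maximal invariant subgroups of an element of order three
-/

set_option autoImplicit false
set_option linter.style.haveILetI false

namespace Cfsg.Agent.Lib.NineTwoQ78.OneClass

open Subgroup
open Cfsg.Agent.Lib
open Cfsg.Agent.Lib.Spectrum.SelfThree (Inv MaxInv pPart pPart_le card_pPart map_conj_inv)

universe u

variable {G : Type u} [Group G] [Finite G] {q a b : ℕ} {R : Sylow 3 G}

/-- The subgroups. -/
def Class (z : G) (M : Subgroup G) : Set (Subgroup G) :=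
  {M' | MaxInv z M' ∧ ∃ g : G, M.map (MulAut.conj g).toMonoidHom = M'}

/-- The weight of a set of subgroups. -/
noncomputable def weight (s : Set (Subgroup G)) : ℕ :=
  ∑ M ∈ (Set.toFinite s).toFinset, (Nat.card M - 1)

theorem cover_le (z : G) :
    Nat.card (Cover z) ≤ weight {M : Subgroup G | MaxInv z M ∧ M ≠ ⊥} := by
  classical
  haveI := Fintype.ofFinite G
  set T := (Set.toFinite {M : Subgroup G | MaxInv z M ∧ M ≠ ⊥}).toFinset
  have hsub : (Finset.univ.filter fun u => u ∈ Cover z) ⊆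
      T.biUnion fun M => (Finset.univ.filter fun u => u ∈ M).erase 1 := by
    intro u hu
    obtain ⟨hu1, A, hA, huA⟩ := (Finset.mem_filter.1 hu).2
    obtain ⟨M, hM, hAM⟩ := hA.exists_maxInv
    refine Finset.mem_biUnion.2 ⟨M, (Set.toFinite _).mem_toFinset.2 ⟨hM, fun e => hu1 ?_⟩,
      Finset.mem_erase.2 ⟨hu1, Finset.mem_filter.2 ⟨Finset.mem_univ _, hAM huA⟩⟩⟩
    exact mem_bot.1 (e ▸ hAM huA)
  rw [Nat.card_eq_fintype_card, ← Set.toFinset_card]
  refine le_trans (le_of_eq (congrArg Finset.card ?_)) ((Finset.card_le_card hsub).trans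
    (Finset.card_biUnion_le.trans (Finset.sum_le_sum fun M _ => le_of_eq ?_)))
  · ext u; simp
  · rw [Finset.card_erase_of_mem (by simp [one_mem]), ← Fintype.card_subtype,
      ← Nat.card_eq_fintype_card]

theorem weight_mono {s t : Set (Subgroup G)} (h : s ⊆ t) : weight s ≤ weight t :=
  Finset.sum_le_sum_of_subset (Set.Finite.toFinset_mono h)

theorem weight_union {s t : Set (Subgroup G)} : weight (s ∪ t) ≤ weight s + weight t := by
  classical
  unfold weight
  rw [Set.Finite.toFinset_union (Set.toFinite s) (Set.toFinite t)]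
  exact Nat.le.intro (Finset.sum_union_inter)

namespace Hyp

variable (H : Hyp G q a b R)
include H

theorem class_card {z : G} (hz : orderOf z = 3) {M : Subgroup G} (hM : MaxInv z M) (hne : M ≠ ⊥) :
    Nat.card (Class z M) * Nat.card (normalizer (M : Set G)) ≤ 18 * Nat.card M := by
  classical
  haveI : Fact (Nat.Prime 3) := ⟨Nat.prime_three⟩
  have hW := H.wsc hz
  have hC := H.ctx
  set L := normalizer (M : Set G) with hL
  set N := normalizer ((zpowers z : Subgroup G) : Set G) with hN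
  have hzL : z ∈ L := hM.1.2
  have hSC := hC.loc L M hne le_normalizer le_rfl hM.1.1 z hW hzL
  set St := (N ⊓ L).subgroupOf N with hSt
  -- the map from the cosets
  let f : N ⧸ St → Subgroup G := fun x => Quotient.liftOn' x
    (fun n : N => M.map (MulAut.conj (n : G)).toMonoidHom) (by
      intro n m hnm
      rw [QuotientGroup.leftRel_apply, mem_subgroupOf] at hnm
      have hfix := mem_normalizer_iff_map_conj_eq.1 hnm.2
      show M.map _ = M.map _
      conv_lhs => rw [← hfix]
      rw [Subgroup.map_map]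
      congr 1
      ext y
      simp [mul_assoc])
  have hsurj : ∀ M' : Class z M, ∃ x, f x = M'.1 := by
    rintro ⟨M', hM', g, rfl⟩
    have hzM' : z ∈ normalizer ((M.map (MulAut.conj g).toMonoidHom : Subgroup G) : Set G) := hM'.1.2
    have hgz : g⁻¹ * z * g ∈ L := by
      have h1 := (hM'.1.conj g⁻¹).2
      rwa [map_conj_inv, show g⁻¹ * z * g⁻¹⁻¹ = g⁻¹ * z * g by group] at h1
    have h3 : (⟨g⁻¹ * z * g, hgz⟩ : L) ^ 3 = 1 := Subtype.ext (by
      rw [SubmonoidClass.coe_pow, OneMemClass.coe_one]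
      have := (hW.conj g⁻¹).pow_three
      rwa [inv_inv] at this)
    have h1 : (⟨g⁻¹ * z * g, hgz⟩ : L) ≠ 1 := fun e => by
      have := (hW.conj g⁻¹).ne_one
      rw [inv_inv] at this
      exact this (congrArg Subtype.val e)
    obtain ⟨n, hn⟩ : ∃ n : L, g⁻¹ * z * g = (n : G) * z * (n : G)⁻¹ ∨
        g⁻¹ * z * g = (n : G) * z⁻¹ * (n : G)⁻¹ := by
      rcases hSC.conj_of_pow_three h3 h1 with e | e <;> obtain ⟨n, hn⟩ := isConj_iff.1 e
      · exact ⟨n, Or.inl (congrArg Subtype.val hn).symm⟩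
      · exact ⟨n, Or.inr (congrArg Subtype.val hn).symm⟩
    have hgn : g * (n : G) ∈ N := by
      rw [hN, mem_normalizer_iff_map_conj_eq, MonoidHom.map_zpowers]
      simp only [MonoidHom.coe_coe, MulAut.conj_apply]
      have : g * (n : G) * z * (g * (n : G))⁻¹ = z ∨ g * (n : G) * z * (g * (n : G))⁻¹ = z⁻¹ := by
        rcases hn with e | e
        · left
          calc g * n * z * (g * n)⁻¹ = g * ((n : G) * z * (n : G)⁻¹) * g⁻¹ := by group
            _ = z := by rw [← e]; group
        · right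
          rw [show g * n * z * (g * n)⁻¹ = (g * ((n : G) * z⁻¹ * (n : G)⁻¹) * g⁻¹)⁻¹ by group, ← e]
          group
      rcases this with e | e <;> rw [e]
      rw [zpowers_inv]
    refine ⟨QuotientGroup.mk (⟨g * n, hgn⟩ : N), ?_⟩
    show M.map (MulAut.conj (g * (n : G))).toMonoidHom = M.map (MulAut.conj g).toMonoidHom
    conv_rhs => rw [← mem_normalizer_iff_map_conj_eq.1 n.2]
    rw [Subgroup.map_map]
    congr 1
    ext y
    simp [mul_assoc]
  choose φ hφ using hsurj
  have hle : Nat.card (Class z M) ≤ St.index := by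
    rw [index_eq_card]
    exact Nat.card_le_card_of_injective φ fun x y e => Subtype.ext (by rw [← hφ x, ← hφ y, e])
  have hmul := St.card_mul_index
  rw [H.card_normalizer_zpowers hz] at hmul
  have hzN : z ∈ N := le_normalizer (mem_zpowers z)
  have hzSt : (⟨z, hzN⟩ : N) ∈ St := mem_subgroupOf.2 ⟨hzN, hzL⟩
  have h3St : 3 ∣ Nat.card St := by
    have := orderOf_dvd_natCard St hzSt
    rwa [Subgroup.orderOf_mk, hz] at this
  rcases Loc.card_normalizer hW hM hC hne with hL3 | hL6
  · rw [hL, hL3]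
    have h3 : 3 ≤ Nat.card St := Nat.le_of_dvd Nat.card_pos h3St
    calc Nat.card (Class z M) * (3 * Nat.card M) ≤ St.index * (Nat.card St * Nat.card M) :=
          Nat.mul_le_mul hle (Nat.mul_le_mul_right _ h3)
      _ = 18 * Nat.card M := by rw [← hmul]; ring
  · -- an element inverting `z`
    haveI : Fact (Nat.Prime 2) := ⟨Nat.prime_two⟩
    obtain ⟨S⟩ : Nonempty (Sylow 2 L) := inferInstance
    obtain ⟨w, hwS, hwM⟩ : ∃ w : L, w ∈ (S : Subgroup L) ∧ (w : G) ∉ M := by
      by_contra hh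
      simp only [not_exists, not_and, not_not] at hh
      have hd : Nat.card S ∣ Nat.card M := by
        rw [← card_map_of_injective (f := L.subtype) L.subtype_injective (K := (S : Subgroup L))]
        refine card_dvd_of_le ?_
        rintro _ ⟨w, hw, rfl⟩
        exact hh w hw
      rw [S.card_eq_multiplicity, hL6] at hd
      have := (Nat.prime_two.pow_dvd_iff_le_factorization Nat.card_pos.ne').1 hd
      rw [Nat.factorization_mul (by norm_num) Nat.card_pos.ne', Finsupp.add_apply] at this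
      have h2 : 0 < (6 : ℕ).factorization 2 :=
        Nat.Prime.factorization_pos_of_dvd Nat.prime_two (by norm_num) (by norm_num)
      omega
    obtain ⟨k, hk⟩ := S.isPGroup' ⟨w, hwS⟩
    have hk' : (w : G) ^ 2 ^ k = 1 := by
      have := congrArg (fun y : (S : Subgroup L) => ((y : L) : G)) hk
      simpa using this
    obtain ⟨m, hm, e⟩ := Loc.exists_flip hW hM hC hne w.2 hwM hk'
    obtain ⟨v, hv, ev⟩ := hW.inv.exists_conj (K := M) hM.1.1 (inv_mem hM.1.2) hm
    have hinv : v * w * z * (v * w)⁻¹ = z⁻¹ := by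
      calc v * w * z * (v * w)⁻¹ = v * ((w : G) * z * (w : G)⁻¹) * v⁻¹ := by group
        _ = z⁻¹ := by rw [e, ev]; group
    have hmemN : v * (w : G) ∈ N := by
      rw [hN, mem_normalizer_iff_map_conj_eq, MonoidHom.map_zpowers,
        MonoidHom.coe_coe, MulAut.conj_apply, hinv, zpowers_inv]
    have hmem : (⟨v * w, hmemN⟩ : N) ∈ St :=
      mem_subgroupOf.2 ⟨hmemN, mul_mem (le_normalizer hv) w.2⟩
    have h2St : 2 ∣ Nat.card St := by
      by_contra h2
      have hd : Nat.card St ∣ 18 := hmul ▸ dvd_mul_right _ _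
      have hodd : Nat.card St ∣ 3 ^ 2 :=
        (Nat.prime_two.coprime_iff_not_dvd.2 h2).symm.dvd_of_dvd_mul_left
          (show Nat.card St ∣ 2 * 3 ^ 2 by norm_num; exact hd)
      have ho := (orderOf_dvd_natCard St hmem).trans hodd
      rw [Subgroup.orderOf_mk] at ho
      -- an element of odd order cannot invert
      have hsq : (v * (w : G)) ^ 9 * z * ((v * (w : G)) ^ 9)⁻¹ = z⁻¹ := by
        have h2' : ∀ x, (v * (w : G)) * ((v * (w : G)) * x * (v * (w : G))⁻¹) * (v * (w : G))⁻¹ =
            (v * (w : G)) ^ 2 * x * ((v * (w : G)) ^ 2)⁻¹ := fun x => by rw [pow_two]; group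
        have key : (v * (w : G)) ^ 2 * z * ((v * (w : G)) ^ 2)⁻¹ = z := by
          rw [← h2', hinv, show v * (w : G) * z⁻¹ * (v * (w : G))⁻¹ =
            (v * (w : G) * z * (v * (w : G))⁻¹)⁻¹ by group, hinv, inv_inv]
        have key' : Commute ((v * (w : G)) ^ 2) z := mul_inv_eq_iff_eq_mul.1 key
        have key4 : Commute (((v * (w : G)) ^ 2) ^ 4) z := key'.pow_left 4
        rw [show (v * (w : G)) ^ 9 = ((v * (w : G)) ^ 2) ^ 4 * (v * (w : G)) by
          rw [← pow_mul, ← pow_succ]]
        calc _ = ((v * (w : G)) ^ 2) ^ 4 * (v * (w : G) * z * (v * (w : G))⁻¹) *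
              (((v * (w : G)) ^ 2) ^ 4)⁻¹ := by group
          _ = z⁻¹ := by rw [hinv, (key4.inv_right).eq, mul_inv_cancel_right]
      have h9 : (v * (w : G)) ^ 9 = 1 := orderOf_dvd_iff_pow_eq_one.1 ho
      rw [h9, one_mul, inv_one, mul_one] at hsq
      have : orderOf z ∣ 2 := orderOf_dvd_of_pow_eq_one (by
        rw [pow_two]; nth_rw 2 [hsq]; rw [mul_inv_cancel])
      rw [hz] at this
      norm_num at this
    have h6 : 6 ≤ Nat.card St := Nat.le_of_dvd Nat.card_pos
      ((Nat.Coprime.mul_dvd_of_dvd_of_dvd (by norm_num : Nat.Coprime 2 3) h2St h3St :))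
    rw [hL, hL6]
    calc Nat.card (Class z M) * (6 * Nat.card M) ≤ St.index * (Nat.card St * Nat.card M) :=
          Nat.mul_le_mul hle (Nat.mul_le_mul_right _ h6)
      _ = 18 * Nat.card M := by rw [← hmul]; ring

theorem class_weight {z : G} (hz : orderOf z = 3) {M : Subgroup G} (hM : MaxInv z M) (hne : M ≠ ⊥) :
    weight (Class z M) * Nat.card (normalizer (M : Set G)) ≤
      18 * Nat.card M * (Nat.card M - 1) := by
  classical
  have hsum : weight (Class z M) = Nat.card (Class z M) * (Nat.card M - 1) := by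
    rw [weight, Finset.sum_congr rfl (g := fun _ => Nat.card M - 1) fun M' hM' => ?_,
      Finset.sum_const, smul_eq_mul, ← Set.ncard_eq_toFinset_card _, Nat.card_coe_set_eq]
    obtain ⟨-, g, rfl⟩ := (Set.toFinite _).mem_toFinset.1 hM'
    rw [card_map_of_injective (MulAut.conj g).injective]
  rw [hsum, mul_right_comm]
  exact Nat.mul_le_mul_right _ (H.class_card hz hM hne)

/-- The orders. -/
theorem card_spec {z : G} {M : Subgroup G} (hM : MaxInv z M) :
    Nat.card M ∣ 2 ^ a * q ^ b := by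
  have h := M.card_subgroup_dvd_card
  rw [H.card, mul_assoc, show 9 = 3 ^ 2 by norm_num] at h
  exact ((Nat.prime_three.coprime_iff_not_dvd.2 hM.1.1).symm.pow_right 2).dvd_of_dvd_mul_left h

theorem card_of_not_dvd {z : G} {M : Subgroup G} (hM : MaxInv z M) (hq : ¬ q ∣ Nat.card M) :
    ∃ m, m ≤ a ∧ Nat.card M = 2 ^ m :=
  (Nat.dvd_prime_pow Nat.prime_two).1
    (((H.prime.coprime_iff_not_dvd.2 hq).symm.pow_right b).dvd_of_dvd_mul_right (H.card_spec hM))

theorem card_two {z : G} {M : Subgroup G} (hM : MaxInv z M) (hq : ¬ q ∣ Nat.card M) :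
    Nat.card (pPart 2 M) = Nat.card M := by
  haveI : Fact (Nat.Prime 2) := ⟨Nat.prime_two⟩
  obtain ⟨m, -, hm⟩ := H.card_of_not_dvd hM hq
  rw [card_pPart, hm, Nat.prime_two.factorization_pow, Finsupp.single_eq_same]

theorem even_of_not_dvd {z : G} {M : Subgroup G} (hM : MaxInv z M) (hne : M ≠ ⊥)
    (hq : ¬ q ∣ Nat.card M) : 2 ∣ Nat.card M := by
  obtain ⟨m, -, hm⟩ := H.card_of_not_dvd hM hq
  rcases m with _ | m
  · exact absurd (card_eq_one.1 (by simpa using hm)) hne
  · exact ⟨2 ^ m, by rw [hm, pow_succ']⟩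

theorem factorization_two : (Nat.card G).factorization 2 = a := by
  have h9 : ¬ 2 ∣ 9 * q ^ b := fun h => by
    rcases Nat.prime_two.dvd_mul.1 h with h | h
    · norm_num at h
    · exact H.ne2 ((Nat.prime_dvd_prime_iff_eq Nat.prime_two H.prime).1
        (Nat.prime_two.dvd_of_dvd_pow h)).symm
  rw [H.card, show 9 * 2 ^ a * q ^ b = 9 * q ^ b * 2 ^ a by ring,
    Nat.factorization_mul (mul_ne_zero (by norm_num) (pow_ne_zero _ H.prime.ne_zero))
      (pow_ne_zero _ two_ne_zero), Finsupp.add_apply, Nat.factorization_eq_zero_of_not_dvd h9,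
    Nat.prime_two.factorization_pow, Finsupp.single_eq_same, zero_add]

/-- A two-power normaliser index three: the subgroup is a Sylow subgroup. -/
theorem eq_of_three {z : G} (hz : orderOf z = 3) {M : Subgroup G} (hM : MaxInv z M) (hne : M ≠ ⊥)
    {m : ℕ} (hev : 2 ∣ Nat.card M) (hm : (Nat.card M).factorization 2 = m)
    (h3 : Nat.card (normalizer (M : Set G)) = 3 * Nat.card M) : m = a := by
  haveI : Fact (Nat.Prime 2) := ⟨Nat.prime_two⟩
  rw [← hm, ← Loc.factorization_eq (p := 2) (H.wsc hz) hM H.ctx hne hev (Or.inr h3),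
    H.factorization_two]

/-- The weight of the class of a two-group. -/
theorem weight_two {z : G} (hz : orderOf z = 3) {M : Subgroup G} (hM : MaxInv z M) (hne : M ≠ ⊥)
    (hq : ¬ q ∣ Nat.card M) :
    (Nat.card (normalizer (M : Set G)) = 6 * Nat.card M ∧ 2 * Nat.card M ≤ 2 ^ a ∧
        weight (Class z M) ≤ 3 * (Nat.card M - 1)) ∨
      (Nat.card M = 2 ^ a ∧ Nat.card M % 3 = 1 ∧ weight (Class z M) ≤ 6 * (Nat.card M - 1)) := by
  haveI : Fact (Nat.Prime 2) := ⟨Nat.prime_two⟩
  have hw := H.class_weight hz hM hne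
  have hpos : 0 < Nat.card M := Nat.card_pos
  obtain ⟨m, hma, hm⟩ := H.card_of_not_dvd hM hq
  have hfac : (Nat.card M).factorization 2 = m := by
    rw [hm, Nat.prime_two.factorization_pow, Finsupp.single_eq_same]
  rcases Loc.card_normalizer (H.wsc hz) hM H.ctx hne with e | e <;> rw [e] at hw
  · refine Or.inr ⟨?_, (H.wsc hz).card_modEq hM.1.1 hM.1.2, ?_⟩
    · rw [hm, H.eq_of_three hz hM hne (H.even_of_not_dvd hM hne hq) hfac e]
    · refine Nat.le_of_mul_le_mul_right ?_ (Nat.mul_pos (by norm_num : 0 < 3) hpos)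
      linarith [hw]
  · refine Or.inl ⟨e, ?_, ?_⟩
    · have hd : 2 * Nat.card M ∣ 2 ^ a := by
        have h := (normalizer (M : Set G)).card_subgroup_dvd_card
        rw [e, H.card] at h
        have h' : 2 * Nat.card M ∣ 2 ^ a * (9 * q ^ b) := by
          refine (Dvd.intro_left 3 ?_ : 2 * Nat.card M ∣ 6 * Nat.card M).trans ?_
          · ring
          · refine h.trans (dvd_of_eq ?_); ring
        refine Nat.Coprime.dvd_of_dvd_mul_right ?_ h'
        rw [hm, ← pow_succ']
        refine Nat.Coprime.pow_left _ (Nat.Coprime.mul_right (by norm_num) (Nat.Coprime.pow_right _ ?_))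
        exact (Nat.coprime_primes Nat.prime_two H.prime).2 H.ne2.symm
      exact Nat.le_of_dvd (pow_pos two_pos a) hd
    · refine Nat.le_of_mul_le_mul_right ?_ (Nat.mul_pos (by norm_num : 0 < 6) hpos)
      linarith [hw]

/-- The two-groups among the maximal invariant subgroups. -/
theorem pure_le {z : G} (hz : orderOf z = 3) :
    weight {M : Subgroup G | MaxInv z M ∧ M ≠ ⊥ ∧ ¬ q ∣ Nat.card M} ≤ 18 ∨
      2 * weight {M : Subgroup G | MaxInv z M ∧ M ≠ ⊥ ∧ ¬ q ∣ Nat.card M} ≤ 3 * 2 ^ a ∨
      (2 ^ a % 3 = 1 ∧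
        weight {M : Subgroup G | MaxInv z M ∧ M ≠ ⊥ ∧ ¬ q ∣ Nat.card M} ≤ 6 * (2 ^ a - 1)) := by
  haveI : Fact (Nat.Prime 2) := ⟨Nat.prime_two⟩
  have hW := H.wsc hz
  have hC := H.ctx
  set T := {M : Subgroup G | MaxInv z M ∧ M ≠ ⊥ ∧ ¬ q ∣ Nat.card M}
  have hsize : ∀ M ∈ T, Nat.card M = 4 ∨ 16 ≤ Nat.card M := by
    rintro M ⟨hM, hne, hq⟩
    rcases (Loc.twoInv hW hM).card_le_four_or with e | e | e <;> rw [H.card_two hM hq] at e
    · exact absurd (card_eq_one.1 e) hne
    · exact Or.inl e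
    · exact Or.inr e
  rcases T.eq_empty_or_nonempty with hT | ⟨M, hMT⟩
  · left
    rw [hT, weight]
    simp
  obtain ⟨hM, hne, hq⟩ := hMT
  by_cases hall : T ⊆ Class z M
  · have hle := weight_mono hall
    rcases H.weight_two hz hM hne hq with ⟨-, h2, hw⟩ | ⟨he, h1, hw⟩
    · right; left
      omega
    · right; right
      rw [← he]
      exact ⟨h1, hle.trans hw⟩
  · left
    obtain ⟨M', hM'T, hnc⟩ := Set.not_subset.1 hall
    obtain ⟨hM', hne', hq'⟩ := hM'T
    have hnc' : ∀ g : G, M.map (MulAut.conj g).toMonoidHom ≠ M' := fun g e => hnc ⟨hM', g, e⟩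
    have hcover : T ⊆ Class z M ∪ Class z M' := by
      rintro N ⟨hN, hneN, hqN⟩
      by_contra hh
      simp only [Set.mem_union, not_or] at hh
      refine Loc.not_three_even hC hW ![M, M', N] ?_ ?_ ?_ ?_
      · intro i; fin_cases i <;> assumption
      · intro i; fin_cases i <;> assumption
      · intro i j hij g
        have back : ∀ {A B : Subgroup G}, (∀ g : G, A.map (MulAut.conj g).toMonoidHom ≠ B) →
            B.map (MulAut.conj g).toMonoidHom ≠ A := fun {A B} h e =>
          h g⁻¹ (by rw [← e, map_conj_inv])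
        fin_cases i <;> fin_cases j
        all_goals first
          | exact absurd rfl hij
          | exact hnc' g
          | exact fun e => hh.1 ⟨hN, g, e⟩
          | exact fun e => hh.2 ⟨hN, g, e⟩
          | exact back hnc'
          | exact back fun g e => hh.1 ⟨hN, g, e⟩
          | exact back fun g e => hh.2 ⟨hN, g, e⟩
      · intro i
        fin_cases i
        exacts [H.even_of_not_dvd hM hne hq, H.even_of_not_dvd hM' hne' hq',
          H.even_of_not_dvd hN hneN hqN]
    have key : ∀ {A B : Subgroup G}, MaxInv z A → MaxInv z B → A ≠ ⊥ → B ≠ ⊥ →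
        (∀ g : G, A.map (MulAut.conj g).toMonoidHom ≠ B) → ¬ q ∣ Nat.card A → ¬ q ∣ Nat.card B →
        weight (Class z A) ≤ 9 := by
      intro A B hA hB hAne hBne h hqA hqB
      obtain ⟨h4, h6, -⟩ := Loc.two_even hC hW hA hB hAne hBne h (H.even_of_not_dvd hA hAne hqA)
        (H.even_of_not_dvd hB hBne hqB)
      rw [H.card_two hA hqA] at h4
      have hw := H.class_weight hz hA hAne
      rw [h6, h4] at hw
      omega
    have h1 := key hM hM' hne hne' hnc' hq hq'
    have h2 := key hM' hM hne' hne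
      (fun g e => hnc' g⁻¹ (by rw [← e, map_conj_inv])) hq' hq
    have := (weight_mono hcover).trans weight_union
    omega

/-- The subgroups of order divisible by `q` are conjugate. -/
theorem q_le {z : G} (hz : orderOf z = 3) {M : Subgroup G} (hM : MaxInv z M) (hne : M ≠ ⊥)
    (hd : q ∣ Nat.card M) :
    {N : Subgroup G | MaxInv z N ∧ N ≠ ⊥ ∧ q ∣ Nat.card N} ⊆ Class z M := by
  haveI : Fact q.Prime := ⟨H.prime⟩
  have hW := H.wsc hz
  rintro N ⟨hN, hneN, hdN⟩
  obtain ⟨S, hS⟩ := (Spectrum.SelfThree.isPGroup_pPart (p := q) M).exists_le_sylow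
  obtain ⟨S', hS'⟩ := (Spectrum.SelfThree.isPGroup_pPart (p := q) N).exists_le_sylow
  have e : ∀ {K : Subgroup G}, MaxInv z K → K ≠ ⊥ → q ∣ Nat.card K → ∀ {T : Sylow q G},
      pPart q K ≤ T → pPart q K = T := by
    intro K hK hKne hKd T hT
    refine eq_of_le_of_card_ge hT ?_
    rw [card_pPart, T.card_eq_multiplicity,
      Loc.factorization_eq hW hK H.ctx hKne hKd (Or.inl H.ne2)]
  obtain ⟨g, hg⟩ := MulAction.exists_smul_eq G S S'
  refine ⟨hN, g, (Loc.eq_map_of_pPart (p := q) hW hM H.ctx hne hW hN hneN hd hdN g ?_).symm⟩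
  rw [e hN hneN hdN hS', e hM hne hd hS, ← hg, Sylow.coe_subgroup_smul]
  rfl

/-- The number of Sylow `q`-subgroups. -/
theorem card_sylow_q [Fact q.Prime] {z : G} (hz : orderOf z = 3) {M : Subgroup G} (hM : MaxInv z M)
    (hne : M ≠ ⊥) (hd : q ∣ Nat.card M) :
    Nat.card (Sylow q G) * Nat.card (normalizer (M : Set G)) = Nat.card G ∧
      q ^ b ∣ Nat.card M := by
  have hW := H.wsc hz
  obtain ⟨S, hS⟩ := (Spectrum.SelfThree.isPGroup_pPart (p := q) M).exists_le_sylow
  have hfac : (Nat.card G).factorization q = b := by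
    have h9 : ¬ q ∣ 9 * 2 ^ a := fun h => by
      rcases H.prime.dvd_mul.1 h with h | h
      · have := (Nat.prime_dvd_prime_iff_eq H.prime Nat.prime_three).1
          (H.prime.dvd_of_dvd_pow (show q ∣ 3 ^ 2 from h))
        exact H.ne3 this
      · exact H.ne2 ((Nat.prime_dvd_prime_iff_eq H.prime Nat.prime_two).1
          (H.prime.dvd_of_dvd_pow h))
    rw [H.card, Nat.factorization_mul (mul_ne_zero (by norm_num) (pow_ne_zero _ two_ne_zero))
      (pow_ne_zero _ H.prime.ne_zero), Finsupp.add_apply, Nat.factorization_eq_zero_of_not_dvd h9,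
      H.prime.factorization_pow, Finsupp.single_eq_same, zero_add]
  have hfM := Loc.factorization_eq hW hM H.ctx hne hd (Or.inl H.ne2) (p := q)
  have heq : pPart q M = (S : Subgroup G) := eq_of_le_of_card_ge hS (by
    rw [card_pPart, S.card_eq_multiplicity, hfM])
  refine ⟨?_, ?_⟩
  · rw [← Loc.normalizer_pPart (p := q) hW hM H.ctx hne hd, heq, S.card_eq_index_normalizer,
      mul_comm]
    exact card_mul_index _
  · rw [← hfac, hfM, ← card_pPart]
    exact card_dvd_of_le (pPart_le q M)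

end Hyp

end Cfsg.Agent.Lib.NineTwoQ78.OneClass
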