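import Cfsg.Agent.Lib.NineTwoQ78.OneClass.Chars
import Cfsg.Agent.Lib.NineTwoQ78.Bound
import Cfsg.Agent.Lib.PrincipalFew.Basic

/-!
# The column when `q ^ b = 125`
-/

set_option autoImplicit false
set_option linter.style.haveILetI false

namespace Cfsg.Agent.Lib.NineTwoQ78.OneClass

open Cfsg.Agent.Lib Cfsg.Agent.Lib.Characters.Basic Cfsg.Agent.Lib.Characters.Complete
open scoped ComplexConjugate

universe u

theorem smooth {d a : ℕ} (hd : d ∣ 2 ^ a * 5 ^ 3) :
    ∃ i j, j ≤ 3 ∧ d = 2 ^ i * 5 ^ j ∧ (d < 256 → i ≤ 7) := by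
  obtain ⟨u, v, hu, hv, rfl⟩ := exists_dvd_and_dvd_of_dvd_mul hd
  obtain ⟨i, -, rfl⟩ := (Nat.dvd_prime_pow Nat.prime_two).1 hu
  obtain ⟨j, hj, rfl⟩ := (Nat.dvd_prime_pow (by norm_num : Nat.Prime 5)).1 hv
  refine ⟨i, j, hj, rfl, fun hlt => ?_⟩
  by_contra hi
  have h1 : 2 ^ 8 ≤ 2 ^ i := Nat.pow_le_pow_right two_pos (by omega)
  have h2 : 1 ≤ 5 ^ j := Nat.one_le_pow _ _ (by norm_num)
  nlinarith

theorem degree_cases {d a : ℕ} (hd : d ∣ 2 ^ a * 5 ^ 3) :
    (d % 9 = 8 → d = 8 ∨ 80 ≤ d) ∧ (d % 9 = 7 → d = 16 ∨ d = 25 ∨ 160 ≤ d) ∧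
      (d % 9 = 1 → d ≤ 64 → d = 1 ∨ d = 10 ∨ d = 64) ∧ d ≠ 172 ∧ d ≠ 190 ∧ d ≠ 154 := by
  obtain ⟨i, j, hj, rfl, hlt⟩ := smooth hd
  by_cases h : 2 ^ i * 5 ^ j < 256
  · have := hlt h
    interval_cases j <;> interval_cases i <;> omega
  · refine ⟨?_, ?_, ?_, ?_⟩ <;> omega

variable {G : Type u} [Group G] [Finite G] {a : ℕ} {R : Sylow 3 G}
  {H : Hyp G 5 a 3 R} {k : G} {c : Cfsg.IrrCharacter G → ℤ}
  {d : Cfsg.IrrCharacter G → ℕ} (K : Col H k c d) [Fintype (Cfsg.IrrCharacter G)]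

namespace Col

include K

theorem degree_spec {χ : Cfsg.IrrCharacter G} (hχ : χ ≠ oneChar G) (h0 : c χ ≠ 0) :
    (c χ = -1 → d χ = 8 ∨ 80 ≤ d χ) ∧ (c χ = -2 → d χ = 16 ∨ d χ = 25 ∨ 160 ≤ d χ) ∧
      (c χ = 1 → d χ ≤ 64 → d χ = 10 ∨ d χ = 64) ∧ d χ ≠ 172 ∧ d χ ≠ 190 ∧ d χ ≠ 154 := by
  obtain ⟨-, -, -, h3⟩ := K.bounds hχ
  obtain ⟨h8, h7, h1, hne⟩ := degree_cases (K.dvd χ (h3 h0))
  obtain ⟨n, hn⟩ := K.cong χ
  have hbig := K.big χ hχ
  refine ⟨fun e => h8 ?_, fun e => h7 ?_, fun e hle => ?_, hne⟩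
  · rw [e] at hn; omega
  · rw [e] at hn; omega
  · have := h1 (by rw [e] at hn; omega) hle
    omega

/-- A character of degree eight alone with its value is rational, which bounds the order. -/
theorem eight_not_unique {χ : Cfsg.IrrCharacter G} (hc : c χ = -1) (hd : d χ = 8)
    (huniq : ∀ ψ, c ψ = -1 → d ψ = 8 → ψ = χ) : False := by
  haveI := H.simple
  haveI : Fact (Nat.Prime 5) := ⟨by norm_num⟩
  have hne : χ ≠ oneChar G := fun e => by
    rw [e, K.one_d] at hd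
    norm_num at hd
  have hrat : Bound.Rat' χ := Bound.rat_of_fixed χ fun j hj g => by
    have hval : (PrincipalCore.Rational.powIrr hj χ : G → ℂ) k = (χ : G → ℂ) k := by
      rw [PrincipalCore.Rational.powIrr_apply]
      refine classFunction_apply_of_isConj (isClassFunction_irr χ) (H.one _ _ ?_ K.ord)
      rw [Nat.Coprime.orderOf_pow, K.ord]
      exact (hj.coprime_dvd_right (orderOf_dvd_natCard k)).symm
    have h1 : c (PrincipalCore.Rational.powIrr hj χ) = -1 := by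
      rw [K.val, K.val] at hval
      rw [← hc]
      exact_mod_cast hval
    have h2 : d (PrincipalCore.Rational.powIrr hj χ) = 8 := by
      rw [K.deg] at hd ⊢
      rw [← hd]
      simp only [Cfsg.charDegree, PrincipalCore.Rational.powIrr_apply, one_pow]
    conv_rhs => rw [← huniq _ h1 h2]
    rfl
  have h := Bound.exp_le hne hrat 5 (k := 3) (by rw [H.card]; exact dvd_mul_left _ _)
  rw [← K.deg, hd] at h
  revert h
  decide

/-- Three characters of degree eight cannot all multiply to the same character. -/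
theorem no_tensor {A : Finset (Cfsg.IrrCharacter G)} (hA : ∀ χ, χ ∈ A ↔ c χ = -1 ∧ d χ = 8)
    (h5 : 5 ≤ A.card) (habs : ∀ χ, χ ≠ oneChar G → c χ ≤ 1)
    (h10 : ∀ χ, χ ≠ oneChar G → c χ = 1 → d χ ≠ 10)
    (h64 : ∀ χ ψ, c χ = 1 → d χ = 64 → c ψ = 1 → d ψ = 64 → χ = ψ) : False := by
  classical
  haveI := Fintype.ofFinite G
  set cj : Cfsg.IrrCharacter G → Cfsg.IrrCharacter G := PrincipalFew.conjIrr with hcj
  have hcA : ∀ χ ∈ A, cj χ ∈ A := by
    intro χ hχ
    obtain ⟨h1, h2⟩ := (hA χ).1 hχ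
    refine (hA _).2 ⟨?_, ?_⟩
    · have : (c (cj χ) : ℂ) = (c χ : ℂ) := by
        rw [← K.val, hcj, PrincipalFew.conjIrr_apply, K.val, map_intCast]
      rw [← h1]
      exact_mod_cast this
    · rw [← h2, K.deg, K.deg]
      simp only [hcj, Cfsg.charDegree, PrincipalFew.conjIrr_apply, Complex.conj_re]
  have hone : ∀ χ ψ : Cfsg.IrrCharacter G,
      Cfsg.classInner ((χ : G → ℂ) * (ψ : G → ℂ)) (oneChar G : G → ℂ) =
        Cfsg.classInner (χ : G → ℂ) (cj ψ : G → ℂ) := by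
    intro χ ψ
    rw [Cfsg.classInner, Cfsg.classInner]
    simp [oneChar_apply, hcj, PrincipalFew.conjIrr_apply]
  have key : ∀ χ ∈ A, ∀ ψ ∈ A, ∃ m : Cfsg.IrrCharacter G → ℕ,
      (∀ τ : Cfsg.IrrCharacter G, Cfsg.classInner ((χ : G → ℂ) * (ψ : G → ℂ)) (τ : G → ℂ) = m τ) ∧
      (∑ τ, m τ * d τ = 64) ∧ ∑ τ, (m τ : ℤ) * c τ = 1 := by
    intro χ hχ ψ hψ
    have hch : Cfsg.IsCharacter G ((χ : G → ℂ) * (ψ : G → ℂ)) :=
      isCharacter_mul (isCharacter_irr χ) (isCharacter_irr ψ)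
    choose m hm using fun τ : Cfsg.IrrCharacter G => exists_classInner_nat hch (isCharacter_irr τ)
    refine ⟨m, hm, ?_, ?_⟩
    · have h := congrFun (classFunction_eq_sum (isClassFunction_of_isCharacter hch)) 1
      simp only [Pi.mul_apply, Finset.sum_apply, Pi.smul_apply, smul_eq_mul, hm,
        DegreeBounds.Basic.charDegree_irr, ← K.deg, ((hA χ).1 hχ).2, ((hA ψ).1 hψ).2] at h
      have : ((∑ τ, m τ * d τ : ℕ) : ℂ) = ((64 : ℕ) : ℂ) := by
        push_cast
        rw [← h]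
        norm_num
      exact_mod_cast this
    · have h := congrFun (classFunction_eq_sum (isClassFunction_of_isCharacter hch)) k
      simp only [Pi.mul_apply, Finset.sum_apply, Pi.smul_apply, smul_eq_mul, hm,
        K.val, ((hA χ).1 hχ).1, ((hA ψ).1 hψ).1] at h
      have : ((∑ τ, (m τ : ℤ) * c τ : ℤ) : ℂ) = ((1 : ℤ) : ℂ) := by
        push_cast
        rw [← h]
        norm_num
      exact_mod_cast this
  -- a product without trivial constituent is the character of degree 64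
  have hprod : ∀ χ ∈ A, ∀ ψ ∈ A, χ ≠ cj ψ → ∃ τ : Cfsg.IrrCharacter G, c τ = 1 ∧ d τ = 64 ∧
      (χ : G → ℂ) * (ψ : G → ℂ) = (τ : G → ℂ) := by
    intro χ hχ ψ hψ hne
    obtain ⟨m, hm, hdeg, hval⟩ := key χ hχ ψ hψ
    obtain ⟨τ, -, hτ⟩ : ∃ τ ∈ Finset.univ, 0 < (m τ : ℤ) * c τ :=
      Finset.exists_lt_of_sum_lt (f := fun _ => (0 : ℤ)) (by simp [hval])
    have hm0 : 0 < m τ := by
      rcases Nat.eq_zero_or_pos (m τ) with e | e
      · simp [e] at hτ
      · exact e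
    have hτ1 : τ ≠ oneChar G := by
      rintro rfl
      have h := hm (oneChar G)
      rw [hone, classInner_irr_of_ne hne] at h
      have : m (oneChar G) = 0 := by exact_mod_cast h.symm
      omega
    have hcτ : c τ = 1 := by
      have := habs τ hτ1
      have : 0 < c τ := pos_of_mul_pos_right hτ (by positivity)
      omega
    have hle : m τ * d τ ≤ 64 := hdeg ▸ Finset.single_le_sum (fun _ _ => Nat.zero_le _)
      (Finset.mem_univ τ) (f := fun τ => m τ * d τ)
    have hd64 : d τ = 64 := by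
      obtain ⟨-, -, h1, -⟩ := K.degree_spec hτ1 (by omega)
      exact (h1 hcτ (le_trans (Nat.le_mul_of_pos_left _ hm0) hle)).resolve_left (h10 τ hτ1 hcτ)
    rw [hd64] at hle
    have hm1 : m τ = 1 := by omega
    refine ⟨τ, hcτ, hd64, ?_⟩
    conv_lhs => rw [classFunction_eq_sum (isClassFunction_of_isCharacter
      (isCharacter_mul (isCharacter_irr χ) (isCharacter_irr ψ)))]
    rw [Finset.sum_eq_single τ ?_ (fun h => absurd (Finset.mem_univ τ) h), hm, hm1, Nat.cast_one,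
      one_smul]
    intro σ _ hσ
    have hrest : ∑ x ∈ Finset.univ.erase τ, m x * d x = 0 := by
      have h := (Finset.add_sum_erase _ (fun x => m x * d x) (Finset.mem_univ τ)).trans hdeg
      simp only [hm1, hd64] at h
      omega
    have hσ0 := Finset.sum_eq_zero_iff.1 hrest σ (Finset.mem_erase.2 ⟨hσ, Finset.mem_univ _⟩)
    rw [hm, (mul_eq_zero.1 hσ0).resolve_right (K.pos σ).ne', Nat.cast_zero, zero_smul]
  -- three of them
  obtain ⟨χ₁, h1⟩ := Finset.card_pos.1 (show 0 < A.card by omega)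
  obtain ⟨χ₂, h2, χ₃, h3, h23⟩ : ∃ x ∈ (A.erase χ₁).erase (cj χ₁), ∃ y ∈ (A.erase χ₁).erase (cj χ₁),
      x ≠ y := by
    refine Finset.one_lt_card.1 ?_
    have := Finset.pred_card_le_card_erase (a := cj χ₁) (s := A.erase χ₁)
    have := Finset.pred_card_le_card_erase (a := χ₁) (s := A)
    omega
  simp only [Finset.mem_erase] at h2 h3
  have hinv : ∀ χ, cj (cj χ) = χ := fun χ => Subtype.ext (funext fun g => by
    simp [hcj, PrincipalFew.conjIrr_apply])
  obtain ⟨τ, hτc, hτd, e12⟩ := hprod χ₁ h1 χ₂ h2.2.2 fun e => h2.1 (by rw [e, hinv])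
  obtain ⟨τ', hτc', hτd', e13⟩ := hprod χ₁ h1 χ₃ h3.2.2 fun e => h3.1 (by rw [e, hinv])
  obtain rfl := h64 τ' τ hτc' hτd' hτc hτd
  obtain ⟨τ'', hτc'', hτd'', e23⟩ := hprod (cj χ₂) (hcA _ h2.2.2) χ₃ h3.2.2 fun e => h23 (by
    rw [← hinv χ₂, e, hinv])
  obtain rfl := h64 τ'' τ' hτc'' hτd'' hτc hτd
  obtain ⟨m, hm, hdeg, -⟩ := key χ₁ h1 (cj χ₁) (hcA _ h1)
  have hm1 : m (oneChar G) = 1 := by
    have h := hm (oneChar G)
    rw [hone, hinv, classInner_self_irr] at h
    exact_mod_cast h.symm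
  have hτ1 : τ'' ≠ oneChar G := fun e => by rw [e, K.one_d] at hτd; norm_num at hτd
  have h0 : m τ'' = 0 := by
    have h := Finset.sum_le_sum_of_subset_of_nonneg (f := fun x => m x * d x)
      (Finset.subset_univ {oneChar G, τ''}) (fun _ _ _ => Nat.zero_le _)
    rw [Finset.sum_pair hτ1.symm, hdeg, hm1, K.one_d, hτd] at h
    omega
  have hA' : Cfsg.classInner ((χ₁ : G → ℂ) * (χ₂ : G → ℂ)) ((χ₁ : G → ℂ) * (χ₃ : G → ℂ)) =
      Cfsg.classInner ((χ₁ : G → ℂ) * (cj χ₁ : G → ℂ)) ((cj χ₂ : G → ℂ) * (χ₃ : G → ℂ)) := by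
    rw [Cfsg.classInner, Cfsg.classInner]
    congr 1
    refine Finset.sum_congr rfl fun g _ => ?_
    simp only [Pi.mul_apply, hcj, PrincipalFew.conjIrr_apply, map_mul, Complex.conj_conj]
    ring
  rw [e12, e13, e23, classInner_self_irr, hm, h0, Nat.cast_zero] at hA'
  exact one_ne_zero hA'

/-- The weighted sum of cubes is at least seven sixteenths. -/
theorem sum_cubes_large : (7 / 16 : ℚ) ≤ ∑ χ, (c χ : ℚ) ^ 3 / d χ := by
  classical
  obtain ⟨i₀, hi1, hic, j, hj1, hj3, hid, hmod⟩ := K.exists_odd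
  obtain ⟨hi₀c, hi₀d⟩ : c i₀ = -1 ∧ d i₀ = 125 := by
    obtain ⟨n, hn⟩ := K.cong i₀
    rw [hid] at hn ⊢
    interval_cases j <;> norm_num at hmod
    norm_num at hn ⊢
    rcases hic with e | e <;> omega
  set T := (Finset.univ.erase (oneChar G)).filter (fun χ => c χ ≠ 0) with hT
  rw [K.sum_split _ (fun χ e => by simp [e]), ← hT, K.one_c, K.one_d]
  have hi₀T : i₀ ∈ T := Finset.mem_filter.2
    ⟨Finset.mem_erase.2 ⟨hi1, Finset.mem_univ _⟩, by omega⟩
  set pA := fun χ : Cfsg.IrrCharacter G => c χ = -1 ∧ d χ = 8 with hpA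
  set pW := fun χ : Cfsg.IrrCharacter G => c χ = -2 ∧ d χ ≤ 25 with hpW
  set A := (T.erase i₀).filter pA with hA
  set B := (T.erase i₀).filter (fun χ => ¬ pA χ) with hB
  set W := B.filter pW with hW
  set O := B.filter (fun χ => ¬ pW χ) with hO
  have hmemT : ∀ χ ∈ T, χ ≠ oneChar G ∧ c χ ≠ 0 := fun χ hχ =>
    ⟨(Finset.mem_erase.1 (Finset.mem_filter.1 hχ).1).1, (Finset.mem_filter.1 hχ).2⟩
  have hmemA : ∀ χ, χ ∈ A ↔ c χ = -1 ∧ d χ = 8 := by
    intro χ
    simp only [hA, hT, Finset.mem_filter, Finset.mem_erase, Finset.mem_univ, hpA, and_true]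
    refine ⟨fun h => h.2, fun h => ⟨⟨fun e => ?_, fun e => ?_, by omega⟩, h⟩⟩
    · rw [e, hi₀d] at h; omega
    · rw [e, K.one_d] at h; omega
  have hmemW : ∀ χ ∈ W, χ ∈ T ∧ c χ = -2 ∧ (d χ = 16 ∨ d χ = 25) := by
    intro χ hχ
    obtain ⟨hχB, hc, hd⟩ := Finset.mem_filter.1 hχ
    have hχT := Finset.mem_of_mem_erase (Finset.mem_filter.1 hχB).1
    obtain ⟨-, h2, -⟩ := K.degree_spec (hmemT χ hχT).1 (hmemT χ hχT).2
    exact ⟨hχT, hc, by have := h2 hc; omega⟩
  have hmemO : ∀ χ ∈ O, χ ∈ T ∧ -(if c χ < 0 then (c χ : ℚ) ^ 2 else 0) / 80 ≤ (c χ : ℚ) ^ 3 / d χ := by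
    intro χ hχ
    obtain ⟨hχB, hnW⟩ := Finset.mem_filter.1 hχ
    obtain ⟨hχe, hnA⟩ := Finset.mem_filter.1 hχB
    have hχT := Finset.mem_of_mem_erase hχe
    obtain ⟨hne, h0⟩ := hmemT χ hχT
    refine ⟨hχT, ?_⟩
    obtain ⟨h1, h2, -⟩ := K.degree_spec hne h0
    obtain ⟨lo, hi, -⟩ := K.bounds hne
    have hdq : (0 : ℚ) < d χ := by exact_mod_cast K.pos χ
    rcases (by omega : c χ = -2 ∨ c χ = -1 ∨ 0 ≤ c χ) with e | e | e
    · have h160 : (160 : ℚ) ≤ d χ := by
        have : 160 ≤ d χ := by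
          have := h2 e
          have : ¬ d χ ≤ 25 := fun h => hnW ⟨e, h⟩
          omega
        exact_mod_cast this
      rw [if_pos (by omega), e, le_div_iff₀ hdq]
      push_cast
      linarith
    · have h80 : (80 : ℚ) ≤ d χ := by
        have : 80 ≤ d χ := (h1 e).resolve_left fun h => hnA ⟨e, h⟩
        exact_mod_cast this
      rw [if_pos (by omega), e, le_div_iff₀ hdq]
      push_cast
      linarith
    · rw [if_neg (by omega), neg_zero, zero_div]
      have : (0 : ℚ) ≤ c χ := by exact_mod_cast e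
      positivity
  have hsplit : ∀ {M : Type} [AddCommMonoid M] (f : Cfsg.IrrCharacter G → M),
      ∑ χ ∈ T, f χ = f i₀ + (∑ χ ∈ A, f χ + (∑ χ ∈ W, f χ + ∑ χ ∈ O, f χ)) := by
    intro M _ f
    rw [← Finset.add_sum_erase _ _ hi₀T, ← Finset.sum_filter_add_sum_filter_not (T.erase i₀) pA,
      ← hA, ← hB, ← Finset.sum_filter_add_sum_filter_not B pW]
  have hsq := K.sq_rest
  rw [← hT, hsplit, hi₀c, Finset.sum_congr rfl fun χ hχ => show c χ ^ 2 = 1 by
      rw [((hmemA χ).1 hχ).1]; norm_num,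
    Finset.sum_congr rfl fun χ hχ => show c χ ^ 2 = 4 by rw [(hmemW χ hχ).2.1]; norm_num,
    Finset.sum_const, Finset.sum_const, nsmul_eq_mul, nsmul_eq_mul] at hsq
  have hdeg := K.degsum_rest
  rw [← hT, hsplit, hi₀c, hi₀d, Finset.sum_congr rfl fun χ hχ => show c χ * (d χ : ℤ) = -8 by
      rw [((hmemA χ).1 hχ).1, ((hmemA χ).1 hχ).2]; norm_num,
    Finset.sum_congr rfl fun χ hχ => show c χ * (d χ : ℤ) = -2 * d χ by rw [(hmemW χ hχ).2.1],
    Finset.sum_const, nsmul_eq_mul, ← Finset.mul_sum] at hdeg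
  push_cast at hsq hdeg
  have hWnn : (0 : ℤ) ≤ ∑ χ ∈ W, (d χ : ℤ) := Finset.sum_nonneg fun _ _ => Int.natCast_nonneg _
  obtain ⟨p, hpO, hp⟩ : ∃ p ∈ O, 0 < c p := by
    by_contra h
    simp only [not_exists, not_and, not_lt] at h
    have : ∑ χ ∈ O, c χ * (d χ : ℤ) ≤ 0 := Finset.sum_nonpos fun χ hχ =>
      mul_nonpos_of_nonpos_of_nonneg (h χ hχ) (Int.natCast_nonneg _)
    omega
  have hsqp : c p ^ 2 ≤ ∑ χ ∈ O, c χ ^ 2 := Finset.single_le_sum (fun _ _ => sq_nonneg _) hpO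
  have hp1 : 1 ≤ c p ^ 2 := by nlinarith
  have hOq : -(((∑ χ ∈ O, c χ ^ 2 : ℤ) : ℚ) - 1) / 80 ≤ ∑ χ ∈ O, (c χ : ℚ) ^ 3 / d χ := by
    rw [← Finset.add_sum_erase _ _ hpO, ← Finset.add_sum_erase _ _ hpO]
    have h1 : (0 : ℚ) ≤ (c p : ℚ) ^ 3 / d p := by
      have : (0 : ℚ) ≤ c p := by exact_mod_cast hp.le
      positivity
    have h2 : -(((∑ χ ∈ O.erase p, c χ ^ 2 : ℤ) : ℚ)) / 80 ≤
        ∑ χ ∈ O.erase p, (c χ : ℚ) ^ 3 / d χ := by
      push_cast
      rw [neg_div, Finset.sum_div, ← Finset.sum_neg_distrib]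
      refine Finset.sum_le_sum fun χ hχ => le_trans ?_ (hmemO χ (Finset.mem_of_mem_erase hχ)).2
      rw [neg_div]
      split_ifs
      · exact le_refl _
      · have := sq_nonneg (c χ : ℚ); linarith
    have h3 : (1 : ℚ) ≤ ((c p ^ 2 : ℤ) : ℚ) := by exact_mod_cast hp1
    push_cast at h2 h3 ⊢
    linarith
  rw [hsplit, Finset.sum_congr rfl fun χ hχ => show (c χ : ℚ) ^ 3 / d χ = -1 / 8 by
      rw [((hmemA χ).1 hχ).1, ((hmemA χ).1 hχ).2]; norm_num,
    Finset.sum_const, nsmul_eq_mul, hi₀c, hi₀d]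
  have hWq : -(W.card : ℚ) / 2 ≤ ∑ χ ∈ W, (c χ : ℚ) ^ 3 / d χ := by
    rw [show -(W.card : ℚ) / 2 = ∑ _χ ∈ W, (-1 / 2 : ℚ) by rw [Finset.sum_const, nsmul_eq_mul]; ring]
    refine Finset.sum_le_sum fun χ hχ => ?_
    obtain ⟨-, hc, hd⟩ := hmemW χ hχ
    rcases hd with e | e <;> rw [hc, e] <;> norm_num
  have hSq : ((∑ χ ∈ O, c χ ^ 2 : ℤ) : ℚ) = 7 - A.card - 4 * W.card := by
    have : (∑ χ ∈ O, c χ ^ 2) = 7 - (A.card : ℤ) - 4 * (W.card : ℤ) := by linarith
    rw [this]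
    push_cast
    ring
  rw [hSq] at hOq
  push_cast
  -- the small cases
  have hcases : (W.card = 0 ∧ A.card ≤ 4) ∨ (W.card = 1 ∧ A.card = 0) := by
    by_contra hcon
    have hW1 : W.card ≤ 1 := by omega
    rcases Nat.le_one_iff_eq_zero_or_eq_one.1 hW1 with e | e
    · -- many characters of degree eight
      have h5 : 5 ≤ A.card := by omega
      have hO2 : ∑ χ ∈ O, c χ ^ 2 ≤ 2 := by rw [e] at hsq; push_cast at hsq; linarith [show (5:ℤ) ≤ A.card by omega]
      have hOabs : ∀ χ ∈ O, c χ = 1 ∨ c χ = -1 := by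
        intro χ hχ
        have h1 : c χ ^ 2 ≤ 2 := (Finset.single_le_sum (fun _ _ => sq_nonneg _) hχ).trans hO2
        have h0 := (hmemT χ (hmemO χ hχ).1).2
        have : c χ < 2 := by nlinarith
        have : -2 < c χ := by nlinarith
        omega
      have hOcard : (O.card : ℤ) ≤ 2 := by
        refine le_trans (le_of_eq ?_) hO2
        rw [Finset.sum_congr rfl fun χ hχ => show c χ ^ 2 = 1 by
          rcases hOabs χ hχ with e | e <;> rw [e] <;> norm_num]
        simp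
      have hWe : W = ∅ := Finset.card_eq_zero.1 e
      have hin : ∀ χ, χ ≠ oneChar G → 0 < c χ → χ ∈ O := by
        intro χ hχ hpos
        refine Finset.mem_filter.2 ⟨Finset.mem_filter.2 ⟨Finset.mem_erase.2 ⟨?_, ?_⟩, ?_⟩, ?_⟩
        · rintro rfl; omega
        · exact Finset.mem_filter.2 ⟨Finset.mem_erase.2 ⟨hχ, Finset.mem_univ _⟩, by omega⟩
        · intro h; simp only [hpA] at h; omega
        · intro h; simp only [hpW] at h; omega
      have hsum : ∑ χ ∈ O, c χ * (d χ : ℤ) = 124 + 8 * A.card := by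
        rw [hWe] at hdeg
        simp at hdeg
        linarith
      have hpair : ∀ x ∈ O, ∀ y ∈ O, x ≠ y → O = {x, y} ∧ A.card = 5 := by
        intro x hx y hy hxy
        have hsub : ({x, y} : Finset _) ⊆ O := by
          intro z hz; simp at hz; rcases hz with rfl | rfl <;> assumption
        have h2 : ({x, y} : Finset _).card = 2 := Finset.card_pair hxy
        have := Finset.card_le_card hsub
        refine ⟨(Finset.eq_of_subset_of_card_le hsub (by omega)).symm, ?_⟩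
        have : (O.card : ℤ) ≤ ∑ χ ∈ O, c χ ^ 2 := by
          rw [Finset.card_eq_sum_ones, Nat.cast_sum]
          exact Finset.sum_le_sum fun χ hχ => by
            rcases hOabs χ hχ with e | e <;> rw [e] <;> norm_num
        rw [e] at hsq
        push_cast at hsq
        omega
      refine K.no_tensor hmemA h5 (fun χ hχ => ?_) (fun χ hχ hc hd => ?_) ?_
      · by_contra h
        rcases hOabs χ (hin χ hχ (by omega)) with e | e <;> omega
      · have hχO := hin χ hχ (by omega)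
        by_cases hy : ∃ y ∈ O, χ ≠ y
        · obtain ⟨y, hy, hne⟩ := hy
          obtain ⟨hO', hA5⟩ := hpair χ hχO y hy hne
          rw [hO', Finset.sum_pair hne, hc, hd, hA5] at hsum
          obtain ⟨hyT, -⟩ := hmemO y hy
          obtain ⟨-, -, -, -, -, h154⟩ := K.degree_spec (hmemT y hyT).1 (hmemT y hyT).2
          rcases hOabs y hy with ey | ey <;> rw [ey] at hsum <;> omega
        · push Not at hy
          have : O = {χ} := Finset.eq_singleton_iff_unique_mem.2 ⟨hχO, fun y hy' => (hy y hy').symm⟩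
          rw [this, Finset.sum_singleton, hc, hd] at hsum
          omega
      · intro χ ψ hc hd hc' hd'
        by_contra hne
        have hχ : χ ≠ oneChar G := fun e => by rw [e, K.one_d] at hd; omega
        have hψ : ψ ≠ oneChar G := fun e => by rw [e, K.one_d] at hd'; omega
        obtain ⟨hO', hA5⟩ := hpair χ (hin χ hχ (by omega)) ψ (hin ψ hψ (by omega)) hne
        rw [hO', Finset.sum_pair hne, hc, hd, hc', hd', hA5] at hsum
        omega
    · -- one character of value minus two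
      obtain ⟨w, hw⟩ := Finset.card_eq_one.1 e
      have hA2 : A.card = 1 ∨ A.card = 2 := by omega
      rcases hA2 with e' | e'
      · obtain ⟨χ, hχ⟩ := Finset.card_eq_one.1 e'
        obtain ⟨hc, hd⟩ := (hmemA χ).1 (by rw [hχ]; exact Finset.mem_singleton_self χ)
        exact K.eight_not_unique hc hd fun ψ h1 h2 => by
          have := (hmemA ψ).2 ⟨h1, h2⟩
          rw [hχ] at this
          exact Finset.mem_singleton.1 this
      · rw [e, e'] at hsq
        push_cast at hsq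
        have hO1 : ∑ χ ∈ O, c χ ^ 2 = 1 := by linarith
        have hcp : c p = 1 := by nlinarith
        have hOp : O = {p} := by
          refine Finset.eq_singleton_iff_unique_mem.2 ⟨hpO, fun y hy => ?_⟩
          by_contra hne
          have h2 := Finset.sum_le_sum_of_subset_of_nonneg (f := fun χ => c χ ^ 2)
            (s := {y, p}) (t := O) (by intro z hz; simp at hz; rcases hz with rfl | rfl <;> assumption)
            (fun _ _ _ => sq_nonneg _)
          rw [Finset.sum_pair hne, hcp, hO1] at h2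
          have := (hmemT y (hmemO y hy).1).2
          have : 0 < c y ^ 2 := by positivity
          omega
        obtain ⟨-, -, hdw⟩ := hmemW w (by rw [hw]; exact Finset.mem_singleton_self w)
        rw [hOp, hw, e', Finset.sum_singleton, Finset.sum_singleton, hcp] at hdeg
        obtain ⟨-, -, -, h172, h190, -⟩ := K.degree_spec (hmemT p (hmemO p hpO).1).1
          (hmemT p (hmemO p hpO).1).2
        push_cast at hdeg
        omega
  rcases hcases with ⟨e, e'⟩ | ⟨e, e'⟩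
  · rw [e] at hWq hOq
    have : (A.card : ℚ) ≤ 4 := by exact_mod_cast e'
    push_cast at hWq hOq
    linarith
  · rw [e] at hWq hOq
    rw [e'] at hOq ⊢
    push_cast at hWq hOq ⊢
    linarith

end Col

end Cfsg.Agent.Lib.NineTwoQ78.OneClass
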