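import Cfsg.Agent.Lib.NineTwoQ78.OneClass.Setup
import Cfsg.Agent.Lib.SmallGroups.Counting
import Mathlib.GroupTheory.PGroup

/-!
# Fusion of the elements of order three
-/

set_option autoImplicit false
set_option linter.style.haveILetI false

namespace Cfsg.Agent.Lib.NineTwoQ78.OneClass

open Subgroup
open Cfsg.Agent.Lib

universe u

variable {G : Type u} [Group G] [Finite G] {q a b : ℕ} {R : Sylow 3 G} (H : Hyp G q a b R)
include H

namespace Hyp

theorem exists_three : ∃ k ∈ (R : Subgroup G), orderOf k = 3 := by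
  have h9 := H.card_sylow R
  have hne : (R : Subgroup G) ≠ ⊥ := fun e => by rw [e, card_bot] at h9; norm_num at h9
  obtain ⟨⟨k, hk⟩, hk1⟩ := Subgroup.ne_bot_iff_exists_ne_one.1 hne
  exact ⟨k, hk, H.orderOf_of_mem hk fun e => hk1 (Subtype.ext e)⟩

/-- The normaliser of the Sylow subgroup has order divisible by `72`. -/
theorem three_le : 3 ≤ a := by
  classical
  haveI : Fact (Nat.Prime 3) := ⟨Nat.prime_three⟩
  haveI : IsMulCommutative (R : Subgroup G) := ⟨⟨fun x y => Subtype.ext (H.comm x.2 y.2)⟩⟩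
  obtain ⟨k, hkR, hk⟩ := H.exists_three
  have hk1 : k ≠ 1 := fun e => by simp [e] at hk
  set N := normalizer ((R : Subgroup G) : Set G)
  have hRN : (R : Subgroup G) ≤ N := le_normalizer
  set k' : N := ⟨k, hRN hkR⟩
  have hconj : ∀ y : N, IsConj k' y ↔ (y : G) ∈ (R : Subgroup G) ∧ (y : G) ≠ 1 := by
    intro y
    constructor
    · intro h
      obtain ⟨n, hn⟩ := isConj_iff.1 h
      rw [← hn]
      refine ⟨(mem_normalizer_iff.1 n.2 k).1 hkR, fun e => hk1 ?_⟩
      simpa [k', conj_eq_one_iff] using e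
    · rintro ⟨hy, hy1⟩
      obtain ⟨g, hg⟩ := isConj_iff.1 (H.one k y hk (H.orderOf_of_mem hy hy1))
      obtain ⟨n, hn, e⟩ := R.conj_eq_normalizer_conj_of_mem k g⁻¹ hkR (by rwa [inv_inv, hg])
      rw [inv_inv, hg] at e
      refine isConj_iff.2 ⟨⟨n⁻¹, inv_mem hn⟩, Subtype.ext ?_⟩
      simp [e, k']
  have h8 : Nat.card {y : N // IsConj k' y} = 8 := by
    rw [Nat.card_congr (Equiv.subtypeEquivRight hconj)]
    haveI := Fintype.ofFinite G
    rw [Nat.card_congr (⟨fun y => ⟨⟨y.1.1, y.2.1⟩, fun e => y.2.2 (congrArg Subtype.val e)⟩,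
      fun x => ⟨⟨x.1.1, hRN x.1.2⟩, x.1.2, fun e => x.2 (Subtype.ext e)⟩,
      fun _ => rfl, fun _ => rfl⟩ : {y : N // (y : G) ∈ (R : Subgroup G) ∧ (y : G) ≠ 1} ≃
        {x : (R : Subgroup G) // x ≠ 1}),
      Nat.card_eq_fintype_card, Fintype.card_subtype_compl, Fintype.card_subtype_eq,
      ← Nat.card_eq_fintype_card, H.card_sylow R]
  have h9 : Nat.card (centralizer ({k'} : Set N)) = 9 := by
    rw [← H.card_sylow R]
    have e : centralizer ({k'} : Set N) = (R : Subgroup G).subgroupOf N := by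
      ext y
      rw [mem_subgroupOf, ← H.cen k hkR hk1, mem_centralizer_singleton_iff,
        mem_centralizer_singleton_iff]
      exact ⟨congrArg Subtype.val, fun h => Subtype.ext h⟩
    rw [e]
    exact Nat.card_congr (subgroupOfEquivOfLe hRN).toEquiv
  have h := SmallGroups.Counting.card_isConj_mul k'
  rw [h8, h9] at h
  have hd := N.card_subgroup_dvd_card
  rw [← h, H.card, show 8 * 9 = 2 ^ 3 * 9 by norm_num,
    show 9 * 2 ^ a * q ^ b = 2 ^ a * q ^ b * 9 by ring] at hd
  have h2 : 2 ^ 3 ∣ 2 ^ a := (((Nat.coprime_primes Nat.prime_two H.prime).2 H.ne2.symm).pow 3 b).dvd_of_dvd_mul_right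
    (Nat.dvd_of_mul_dvd_mul_right (by norm_num) hd)
  exact (Nat.pow_dvd_pow_iff_le_right (by norm_num)).1 h2

/-- The size of the class is `2` modulo `3`. -/
theorem mod_three : (2 ^ a * q ^ b) % 3 = 2 := by
  classical
  haveI : Fact (Nat.Prime 3) := ⟨Nat.prime_three⟩
  obtain ⟨k, hkR, hk⟩ := H.exists_three
  have hcard : Nat.card {y : G // IsConj k y} = 2 ^ a * q ^ b := by
    have h := SmallGroups.Counting.card_isConj_mul k
    rw [(H.centralizer_spec hk).1, H.card] at h
    linarith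
  letI act : MulAction (R : Subgroup G) {y : G // IsConj k y} :=
    { smul := fun r y => ⟨(r : G) * y.1 * (r : G)⁻¹, y.2.trans (isConj_iff.2 ⟨r, rfl⟩)⟩
      one_smul := fun y => Subtype.ext (by show (1 : G) * y.1 * 1⁻¹ = y.1; group)
      mul_smul := fun r s y => Subtype.ext (by
        show (r : G) * s * y.1 * ((r : G) * s)⁻¹ = r * (s * y.1 * (s : G)⁻¹) * (r : G)⁻¹
        group) }
  have hord : ∀ y : {y : G // IsConj k y}, orderOf y.1 = 3 := fun y => by
    obtain ⟨g, hg⟩ := isConj_iff.1 y.2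
    rw [← hg, ← hk]
    exact (MulAut.conj g).orderOf_eq k
  have hfix : ∀ y : {y : G // IsConj k y},
      y ∈ MulAction.fixedPoints (R : Subgroup G) {y : G // IsConj k y} ↔
        y.1 ∈ (R : Subgroup G) := by
    intro y
    constructor
    · intro h
      have hk1 : k ≠ 1 := fun e => by simp [e] at hk
      rw [← H.cen k hkR hk1]
      exact mem_centralizer_singleton_iff.2
        (mul_inv_eq_iff_eq_mul.1 (congrArg Subtype.val (h ⟨k, hkR⟩) :)).symm
    · intro h r
      refine Subtype.ext ?_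
      show (r : G) * y.1 * (r : G)⁻¹ = y.1
      rw [H.comm r.2 h, mul_inv_cancel_right]
  have h8 : Nat.card (MulAction.fixedPoints (R : Subgroup G) {y : G // IsConj k y}) = 8 := by
    haveI := Fintype.ofFinite G
    rw [Nat.card_congr (⟨fun y => ⟨⟨y.1.1, (hfix y.1).1 y.2⟩, fun e => by
        have := hord y.1
        rw [show y.1.1 = 1 from congrArg Subtype.val e, orderOf_one] at this
        norm_num at this⟩,
      fun x => ⟨⟨x.1.1, H.one k x.1.1 hk (H.orderOf_of_mem x.1.2 fun e => x.2 (Subtype.ext e))⟩,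
        (hfix _).2 x.1.2⟩,
      fun _ => rfl, fun _ => rfl⟩ : MulAction.fixedPoints (R : Subgroup G) {y : G // IsConj k y} ≃
        {x : (R : Subgroup G) // x ≠ 1}),
      Nat.card_eq_fintype_card, Fintype.card_subtype_compl, Fintype.card_subtype_eq,
      ← Nat.card_eq_fintype_card, H.card_sylow R]
  have h := R.isPGroup'.card_modEq_card_fixedPoints {y : G // IsConj k y}
  rw [hcard, h8] at h
  exact h

end Hyp

end Cfsg.Agent.Lib.NineTwoQ78.OneClass
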