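import Cfsg.Agent.Lib.NineTwoQ78.OneClass.Classes
import Cfsg.Agent.Lib.SmallGroups.Counting

/-!
# Two Sylow subgroups with a large intersection
-/

set_option autoImplicit false
set_option linter.style.haveILetI false

namespace Cfsg.Agent.Lib.NineTwoQ78.OneClass

open Subgroup
open Cfsg.Agent.Lib
open Cfsg.Agent.Lib.Spectrum.SelfThree (Inv)

universe u

variable {G : Type u} [Group G] [Finite G]

theorem not_ninety_six {b : ℕ} {R : Sylow 3 G} (H : Hyp G 5 5 b R) (hb : 4 ≤ b)
    (hn : Nat.card (Sylow 5 G) = 96) : False := by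
  haveI : Fact (Nat.Prime 5) := ⟨by norm_num⟩
  haveI : Fact (Nat.Prime 3) := ⟨Nat.prime_three⟩
  haveI := H.simple
  obtain ⟨P, Q, hPQ, j, hj0, hj2, hD⟩ :=
    SmallGroups.Counting.exists_card_inf_mul (p := 5) (G := G) 2 (by
      rw [hn]; decide)
  obtain rfl : j = 1 := by omega
  rw [pow_one] at hD
  obtain ⟨hPK, hQK, m, d, hcard, hdm, hd1, hd5, hm5⟩ :=
    SmallGroups.Counting.normalizer_inf_of_index_prime P Q hPQ hD
  set D := (P : Subgroup G) ⊓ (Q : Subgroup G) with hDdef
  set K := normalizer (D : Set G) with hKdef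
  have hPcard : Nat.card (P : Subgroup G) = 5 ^ b := by
    rw [SmallGroups.Sylow.card_sylow_eq P (a := b) (m := 9 * 2 ^ 5)
      (by rw [H.card]; ring) (by norm_num)]
  rw [hPcard] at hD
  have hDbot : D ≠ ⊥ := by
    intro e
    rw [e, card_bot, one_mul] at hD
    have : (5 : ℕ) ^ 4 ≤ 5 ^ b := Nat.pow_le_pow_right (by norm_num) hb
    omega
  have hD3 : ¬ 3 ∣ Nat.card D := fun h => by
    have h' : 3 ∣ 5 ^ b := hD ▸ h.mul_right 5
    have := Nat.prime_three.dvd_of_dvd_pow h'
    norm_num at this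
  have h3K : ¬ 3 ∣ Nat.card K := by
    intro h3
    obtain ⟨z, hz⟩ := exists_prime_orderOf_dvd_card' 3 h3
    have hz' : orderOf (z : G) = 3 := by rw [orderOf_coe, hz]
    have hSC := H.ctx.loc K D hDbot le_normalizer le_rfl hD3 z (H.wsc hz') z.2
    have h25 : 25 ∣ Nat.card K := by
      rw [hcard, hPcard]
      exact ((Nat.pow_dvd_pow 5 (show 2 ≤ b by omega)).mul_right m)
    rcases Spectrum.SelfThree.shape hSC with ⟨N, hN, hN3, hidx⟩ | ⟨N, hN, hN2, hc, -⟩ | ⟨h168, -⟩
    · have hInv : Inv (z : G) (N.map K.subtype) := by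
        refine ⟨by rwa [card_map_of_injective K.subtype_injective], ?_⟩
        have hn' : z ∈ normalizer (N : Set K) := by rw [normalizer_eq_top]; exact mem_top _
        exact le_normalizer_map K.subtype (mem_map_of_mem K.subtype hn')
      haveI hnil := (H.wsc hz').isNilpotent hInv.1 hInv.2
      have hle : ∀ S : Sylow 5 G, (S : Subgroup G) ≤ K → (S : Subgroup G) ≤ N.map K.subtype := by
        intro S hS x hx
        refine ⟨⟨x, hS hx⟩, ?_, rfl⟩
        rw [SetLike.mem_coe, ← QuotientGroup.eq_one_iff (N := N), ← orderOf_eq_one_iff]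
        set xq : K ⧸ N := QuotientGroup.mk ⟨x, hS hx⟩
        have h6 : orderOf xq ∣ N.index := orderOf_dvd_natCard xq
        obtain ⟨k, hk⟩ := S.isPGroup' ⟨x, hx⟩
        have h5 : orderOf xq ∣ 5 ^ k := orderOf_dvd_of_pow_eq_one (by
          have e : (⟨x, hS hx⟩ : K) ^ 5 ^ k = 1 := Subtype.ext (by
            simpa using congrArg Subtype.val hk)
          rw [← QuotientGroup.mk_pow, e, QuotientGroup.mk_one])
        refine Nat.eq_one_of_dvd_coprimes ?_ h5 h6
        rcases hidx with e | e <;> rw [e] <;> exact Nat.Coprime.pow_left _ (by norm_num)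
      have huniq := hle P hPK
      have h := Sylow.subtype_injective (P := P) (Q := Q) (hP := huniq) (hQ := hle Q hQK) (by
        haveI : (P.subtype huniq : Subgroup (N.map K.subtype)).Normal := inferInstance
        haveI := Sylow.unique_of_normal (P.subtype huniq) inferInstance
        exact Subsingleton.elim _ _)
      exact hPQ h
    · have h5 : 5 ∣ Nat.card N := by
        have h1 := N.card_mul_index
        rw [index_eq_card, hc] at h1
        rw [← h1] at h25
        have h2 : 5 ∣ Nat.card N * 12 := by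
          refine Nat.dvd_of_mul_dvd_mul_right (by norm_num : 0 < 5) ?_
          rw [mul_assoc]
          exact h25
        exact (Nat.Coprime.dvd_of_dvd_mul_right (by norm_num) h2)
      obtain ⟨y, hy⟩ := exists_prime_orderOf_dvd_card' 5 h5
      have : orderOf y ∣ 2 := orderOf_dvd_of_pow_eq_one (Subtype.ext (by simpa using hN2 y y.2))
      rw [hy] at this
      norm_num at this
    · rw [h168] at h25
      norm_num at h25
  have hKtop : K ≠ ⊤ := by
    intro e
    rw [hKdef, normalizer_eq_top_iff] at e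
    rcases e.eq_bot_or_eq_top with h | h
    · exact hDbot h
    · refine hD3 ?_
      rw [h, Subgroup.card_top, H.card]
      exact ((show 3 ∣ 9 by norm_num).mul_right _).mul_right _
  -- the order of the normaliser
  have hm32 : m ∣ 2 ^ 5 := by
    have hdvd : Nat.card K ∣ 9 * 2 ^ 5 * 5 ^ b := H.card ▸ K.card_subgroup_dvd_card
    rw [hcard, hPcard, mul_comm] at hdvd
    have h' : m ∣ 9 * 2 ^ 5 := Nat.dvd_of_mul_dvd_mul_right (pow_pos (by norm_num) b) hdvd
    refine Nat.Coprime.dvd_of_dvd_mul_left ?_ h'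
    have : ¬ 3 ∣ m := fun h => h3K (hcard ▸ h.mul_left _)
    exact ((Nat.prime_three.coprime_iff_not_dvd.2 this).symm.pow_right 2)
  obtain ⟨i, hi, rfl⟩ := (Nat.dvd_prime_pow Nat.prime_two).1 (hdm.trans hm32)
  obtain rfl : i = 4 := by interval_cases i <;> omega
  have hidx : K.index ∣ 18 := by
    have h := K.card_mul_index
    rw [hcard, hPcard, H.card] at h
    obtain ⟨t, rfl⟩ := hdm
    refine ⟨t, ?_⟩
    have : 5 ^ b * (16 * (K.index * t)) = 5 ^ b * (16 * 18) := by
      rw [show 5 ^ b * (16 * (K.index * t)) = 5 ^ b * (2 ^ 4 * t) * K.index by ring, h]; ring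
    exact (Nat.eq_of_mul_eq_mul_left (by norm_num)
      (Nat.eq_of_mul_eq_mul_left (pow_pos (by norm_num) b) this)).symm
  have hfac := (SmallGroups.Sylow.two_mul_card_dvd_factorial H.noncomm hKtop).trans
    (Nat.factorial_dvd_factorial (Nat.le_of_dvd (by norm_num) hidx))
  have h54 : (5 : ℕ) ^ 4 ∣ 2 * Nat.card G := by
    rw [H.card]
    exact ((Nat.pow_dvd_pow 5 hb).mul_left _).mul_left 2
  have hbad := h54.trans hfac
  norm_num [Nat.factorial] at hbad

end Cfsg.Agent.Lib.NineTwoQ78.OneClass
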