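import Cfsg.Agent.Lib.NineTwoQ78.OneClass.Arith
import Cfsg.Agent.Lib.NineTwoQ78.OneClass.Classes
import Cfsg.Agent.Lib.NineTwoQ78.OneClass.Degrees
import Cfsg.Agent.Lib.NineTwoQ78.OneClass.Fusion
import Cfsg.Agent.Lib.NineTwoQ78.OneClass.Intersect

/-!
# One class of elements of order three: the orders
-/

set_option autoImplicit false
set_option linter.style.haveILetI false

namespace Cfsg.Agent.Lib.NineTwoQ78.OneClass

open Subgroup
open Cfsg.Agent.Lib
open Cfsg.Agent.Lib.Spectrum.SelfThree (MaxInv pPart card_pPart)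

universe u

variable {G : Type u} [Group G] [Finite G] {q a b : ℕ} {R : Sylow 3 G} (H : Hyp G q a b R)
include H

namespace Hyp

theorem five_le : 5 ≤ q := H.prime.five_le_of_ne_two_of_ne_three H.ne2 H.ne3

/-- The order is `9 * 2 ^ a * q` or the exponent is large. -/
theorem exponent : One.Out G ∨
    (2 ≤ b ∧ (q = 5 → 3 ≤ b) ∧ 125 ≤ q ^ b ∧ ((q = 5 ∧ b = 3) ∨ 289 ≤ q ^ b)) := by
  classical
  haveI := H.simple
  haveI := Fintype.ofFinite (Cfsg.IrrCharacter G)
  obtain ⟨k, -, hk⟩ := H.exists_three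
  obtain ⟨c, d, K⟩ := H.exists_col hk
  obtain ⟨χ, -, -, j, hj1, hjb, -, hmod⟩ := K.exists_odd
  have hq5 := H.five_le
  by_cases hb1 : b = 1
  · subst hb1
    obtain rfl : j = 1 := by omega
    refine Or.inl (One.of_one H.noncomm H.prime hq5 (fun e => ?_) (by rw [H.card, pow_one]))
    subst e
    norm_num at hmod
  refine Or.inr ?_
  have hb2 : 2 ≤ b := by omega
  rcases Nat.lt_or_ge q 17 with h17 | h17
  · have hb3 : 3 ≤ b := by
      by_contra hc
      have hj2 : j ≤ 2 := by omega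
      have hq := H.prime
      interval_cases q <;> interval_cases j <;> revert hmod hq <;> norm_num
    refine ⟨hb2, fun _ => hb3, le_trans (le_trans (by norm_num) (Nat.pow_le_pow_left hq5 3))
      (Nat.pow_le_pow_right (by omega) hb3), ?_⟩
    by_cases h : q = 5 ∧ b = 3
    · exact Or.inl h
    refine Or.inr ?_
    rcases Nat.lt_or_ge q 7 with h7 | h7
    · obtain rfl : q = 5 := by
        have hq := H.prime
        interval_cases q <;> first | rfl | (revert hq; norm_num)
      have h4 : 4 ≤ b := by omega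
      exact le_trans (by norm_num) (Nat.pow_le_pow_right (by norm_num : 1 ≤ 5) h4)
    · exact le_trans (by norm_num) ((Nat.pow_le_pow_left h7 3).trans
        (Nat.pow_le_pow_right (by omega) hb3))
  · have h289 : 289 ≤ q ^ b := le_trans (by norm_num)
      ((Nat.pow_le_pow_left h17 2).trans (Nat.pow_le_pow_right (by omega) hb2))
    exact ⟨hb2, fun e => by omega, by omega, Or.inr h289⟩

/-- The bound on the cover. -/
theorem cover_bound {k : G} (hk : orderOf k = 3) :
    2 ^ a * q ^ b ≤ 48 * (7 + Nat.card (Cover k)) := by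
  haveI := Fintype.ofFinite (Cfsg.IrrCharacter G)
  obtain ⟨c, d, K⟩ := H.exists_col hk
  have h1 := triangle_le H K
  have h2 := mul_le_mul_of_nonneg_left K.sum_cubes_ge (Nat.cast_nonneg (α := ℚ) (2 ^ a * q ^ b))
  have h : ((2 ^ a * q ^ b : ℕ) : ℚ) ≤ ((48 * (7 + Nat.card (Cover k)) : ℕ) : ℚ) := by
    push_cast at h1 h2 ⊢
    linarith
  exact_mod_cast h

theorem cover_split {k : G} :
    Nat.card (Cover k) ≤ weight {M : Subgroup G | MaxInv k M ∧ M ≠ ⊥ ∧ ¬ q ∣ Nat.card M} +
      weight {M : Subgroup G | MaxInv k M ∧ M ≠ ⊥ ∧ q ∣ Nat.card M} := by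
  refine (cover_le k).trans ((weight_mono ?_).trans weight_union)
  rintro M ⟨h1, h2⟩
  by_cases h : q ∣ Nat.card M
  · exact Or.inr ⟨h1, h2, h⟩
  · exact Or.inl ⟨h1, h2, h⟩

theorem pos_pow : 8 ≤ 2 ^ a :=
  le_trans (by norm_num) (Nat.pow_le_pow_right two_pos H.three_le)

theorem no_q_false (hY : 125 ≤ q ^ b) (hb : 2 ≤ b) (hcase : (q = 5 ∧ b = 3) ∨ 289 ≤ q ^ b)
    {k : G} (hk : orderOf k = 3)
    (hnone : {M : Subgroup G | MaxInv k M ∧ M ≠ ⊥ ∧ q ∣ Nat.card M} = ∅) : False := by
  classical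
  haveI := Fintype.ofFinite (Cfsg.IrrCharacter G)
  have hE := H.cover_split (k := k)
  rw [hnone, show weight (∅ : Set (Subgroup G)) = 0 by simp [weight], add_zero] at hE
  have hb' := (H.cover_bound hk).trans
    (Nat.mul_le_mul_left 48 (Nat.add_le_add_left hE 7))
  obtain ⟨hX1, hP, hY2, hY294⟩ := Arith.no_q H.pos_pow hY H.mod_three hb'
    (by rcases hcase with ⟨rfl, rfl⟩ | h
        · exact Or.inl (by norm_num)
        · exact Or.inr h) (H.pure_le hk)
  rcases hcase with ⟨rfl, rfl⟩ | h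
  swap
  · exact Arith.eq_125 H.prime H.five_le hb h hY294 hY2
  obtain ⟨c, d, K⟩ := H.exists_col hk
  have h1 := triangle_le H K
  have h2 := mul_le_mul_of_nonneg_left K.sum_cubes_large (Nat.cast_nonneg (α := ℚ) (2 ^ a * 5 ^ 3))
  have h16 : 16 ≤ 2 ^ a := by
    refine le_trans (by norm_num) (Nat.pow_le_pow_right two_pos (show 4 ≤ a from ?_))
    by_contra hc
    have := H.three_le
    obtain rfl : a = 3 := by omega
    norm_num at hX1
  have h3 : (16 : ℚ) ≤ ((2 ^ a : ℕ) : ℚ) := by exact_mod_cast h16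
  have h4 : Nat.card (Cover k) + 6 ≤ 6 * 2 ^ a := by omega
  have h5 : ((Nat.card (Cover k) : ℕ) : ℚ) + 6 ≤ 6 * ((2 ^ a : ℕ) : ℚ) := by exact_mod_cast h4
  push_cast at h1 h2 h3 h5
  linarith

theorem q_false (hY : 125 ≤ q ^ b) (hb : 2 ≤ b) (hb5 : q = 5 → 3 ≤ b)
    (hcase : (q = 5 ∧ b = 3) ∨ 289 ≤ q ^ b) {k : G} (hk : orderOf k = 3) {M : Subgroup G}
    (hM : MaxInv k M) (hne : M ≠ ⊥) (hd : q ∣ Nat.card M) : False := by
  classical
  haveI : Fact (Nat.Prime 2) := ⟨Nat.prime_two⟩
  haveI : Fact q.Prime := ⟨H.prime⟩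
  haveI := H.simple
  have hW := H.wsc hk
  have hC := H.ctx
  have hq5 := H.five_le
  have ha3 := H.three_le
  obtain ⟨hn, hbM⟩ := H.card_sylow_q hk hM hne hd
  -- the order of `M`
  obtain ⟨t, ht⟩ := hbM
  have ht2 : t ∣ 2 ^ a := by
    have h := H.card_spec hM
    rw [ht, mul_comm] at h
    exact Nat.dvd_of_mul_dvd_mul_right (pow_pos H.prime.pos b) h
  obtain ⟨e, hea, rfl⟩ := (Nat.dvd_prime_pow Nat.prime_two).1 ht2
  have h2q : ¬ 2 ∣ q ^ b := fun h => H.ne2
    ((Nat.prime_dvd_prime_iff_eq Nat.prime_two H.prime).1 (Nat.prime_two.dvd_of_dvd_pow h)).symm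
  have hfac : (Nat.card M).factorization 2 = e := by
    rw [ht, Nat.factorization_mul (pow_ne_zero _ H.prime.ne_zero) (pow_ne_zero _ two_ne_zero),
      Finsupp.add_apply, Nat.factorization_eq_zero_of_not_dvd h2q, zero_add,
      Nat.prime_two.factorization_pow, Finsupp.single_eq_same]
  have htwo : Nat.card (pPart 2 M) = 2 ^ e := by rw [card_pPart, hfac]
  set n := Nat.card (Sylow q G)
  have hindex : (normalizer (M : Set G)).index = n := by
    have h := (normalizer (M : Set G)).card_mul_index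
    rw [← hn, mul_comm n] at h
    exact Nat.eq_of_mul_eq_mul_left Nat.card_pos h
  have hN := Loc.card_normalizer hW hM hC hne
  rw [H.card] at hn
  have hn' : n * 2 ^ e * 3 = 9 * 2 ^ a ∨ n * 2 ^ e * 6 = 9 * 2 ^ a := by
    rcases hN with h | h <;> rw [h, ht] at hn <;> [left; right] <;>
      refine Nat.eq_of_mul_eq_mul_right (pow_pos H.prime.pos b) ?_ <;>
      rw [← hn] <;> ring
  -- the two-part is small
  have he : e = 0 ∨ e = 2 := by
    have h4 := (Loc.twoInv hW hM).card_le_four_or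
    rw [htwo] at h4
    rcases h4 with h | h | h
    · exact Or.inl ((Nat.pow_eq_one.1 h).resolve_left (by norm_num))
    · exact Or.inr (Nat.pow_right_injective le_rfl (show 2 ^ e = 2 ^ 2 from h))
    exfalso
    have he0 : e ≠ 0 := fun h0 => by rw [h0] at h; norm_num at h
    have hev : 2 ∣ Nat.card M := ht ▸ (dvd_pow_self 2 he0).mul_left _
    have hbig := Loc.not_dvd_of_big hW hM hC hne hev (htwo.symm ▸ h)
    rw [hfac] at hbig
    have hae : a ≤ e + 1 := by
      by_contra hc
      refine hbig ?_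
      rw [H.card]
      exact ((Nat.pow_dvd_pow 2 (show e + 2 ≤ a by omega)).mul_left 9).mul_right _
    have h2 : 2 ^ a ≤ 2 * 2 ^ e := by
      rw [← pow_succ']; exact Nat.pow_le_pow_right two_pos hae
    have hn6 : n ≤ 6 := by
      by_contra hc
      have : 7 * 2 ^ e ≤ n * 2 ^ e := Nat.mul_le_mul_right _ (by omega)
      omega
    have hfac6 := (SmallGroups.Sylow.two_mul_card_dvd_factorial H.noncomm
      (Loc.normalizer_ne_top hW hM hC hne)).trans
      (Nat.factorial_dvd_factorial (hindex.le.trans hn6))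
    have hq2 : q ^ 2 ∣ Nat.factorial 6 := by
      refine Dvd.dvd.trans ?_ hfac6
      rw [H.card]
      exact ((Nat.pow_dvd_pow q hb).mul_left _).mul_left 2
    have hq26 : q ≤ 26 := by
      by_contra hc
      have h27 : 27 ^ 2 ≤ q ^ 2 := Nat.pow_le_pow_left (by omega) 2
      have := Nat.le_of_dvd (Nat.factorial_pos 6) hq2
      norm_num [Nat.factorial] at this
      omega
    have hq := H.prime
    interval_cases q <;> revert hq2 hq <;> norm_num [Nat.factorial]
  -- congruences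
  have hM3 : Nat.card M % 3 = 1 := hW.card_modEq hM.1.1 hM.1.2
  have hY1 : q ^ b % 3 = 1 := by
    rcases he with rfl | rfl <;> rw [ht] at hM3 <;> omega
  have hX2 : 2 ^ a % 3 = 2 := by
    have := H.mod_three
    rw [Nat.mul_mod, hY1, mul_one, Nat.mod_mod] at this
    exact this
  have h289 : 289 ≤ q ^ b := hcase.resolve_left fun ⟨h1, h2⟩ => by
    subst h1 h2
    norm_num at hY1
  have hP : weight {M : Subgroup G | MaxInv k M ∧ M ≠ ⊥ ∧ ¬ q ∣ Nat.card M} ≤ 18 ∨
      2 * weight {M : Subgroup G | MaxInv k M ∧ M ≠ ⊥ ∧ ¬ q ∣ Nat.card M} ≤ 3 * 2 ^ a := by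
    rcases H.pure_le hk with h | h | ⟨h, -⟩
    · exact Or.inl h
    · exact Or.inr h
    · omega
  have hb' := (H.cover_bound hk).trans (Nat.mul_le_mul_left 48 (Nat.add_le_add_left
    (H.cover_split.trans (Nat.add_le_add_left (weight_mono (H.q_le hk hM hne hd)) _)) 7))
  have hw := H.class_weight hk hM hne
  have hMpos : 0 < Nat.card M := Nat.card_pos
  have hlist : (2 ^ a < 512 ∧ (n = 3 * 2 ^ a ∨ 2 * n = 3 * 2 ^ a)) ∨
      (2 ^ a < 2048 ∧ 8 * n = 3 * 2 ^ a) := by
    rcases he with rfl | rfl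
    · rw [pow_zero, mul_one] at ht hn'
      refine Or.inl ⟨Arith.bound_zero h289 hb' hP ?_, by omega⟩
      rw [← ht]
      refine Nat.le_of_mul_le_mul_right ?_ (Nat.mul_pos (by norm_num : 0 < 3) hMpos)
      refine le_trans (Nat.mul_le_mul_left _ ?_) (hw.trans (le_of_eq (by ring)))
      rcases hN with h | h <;> rw [h] <;> omega
    · have hev : 2 ∣ Nat.card M := ht ▸ dvd_mul_of_dvd_right (by norm_num) _
      have h6 : Nat.card (normalizer (M : Set G)) = 6 * Nat.card M := hN.resolve_left fun h3 => by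
        have := H.eq_of_three hk hM hne hev hfac h3
        omega
      refine Or.inr ⟨Arith.bound_two h289 hb' hP ?_, ?_⟩
      · rw [h6] at hw
        rw [show 4 * q ^ b = Nat.card M by rw [ht]; ring]
        refine Nat.le_of_mul_le_mul_right ?_ (Nat.mul_pos (by norm_num : 0 < 6) hMpos)
        exact hw.trans (le_of_eq (by ring))
      · rw [h6, ht] at hn
        have : 8 * n * (3 * q ^ b) = 3 * 2 ^ a * (3 * q ^ b) := by linarith
        exact Nat.eq_of_mul_eq_mul_right (Nat.mul_pos (by norm_num) (pow_pos H.prime.pos b)) this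
  have hn1 : n ≠ 1 := fun h => Loc.normalizer_ne_top hW hM hC hne
    (Subgroup.index_eq_one.1 (hindex.trans h))
  have hsq : q ^ 2 ≤ n := by
    by_contra hc
    obtain ⟨P⟩ : Nonempty (Sylow q G) := inferInstance
    have h := SylowSmall78.Basic.card_sylow_subgroup (by omega : n < q ^ 2) hn1 P
    have h2 : ¬ q ∣ 9 * 2 ^ a := fun hh => by
      rcases H.prime.dvd_mul.1 hh with h' | h'
      · exact H.ne3 ((Nat.prime_dvd_prime_iff_eq H.prime Nat.prime_three).1
          (H.prime.dvd_of_dvd_pow (show q ∣ 3 ^ 2 from h')))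
      · exact H.ne2 ((Nat.prime_dvd_prime_iff_eq H.prime Nat.prime_two).1
          (H.prime.dvd_of_dvd_pow h'))
    rw [SmallGroups.Sylow.card_sylow_eq P (a := b) (m := 9 * 2 ^ a) (by rw [H.card]; ring) h2] at h
    have : b = 1 := Nat.pow_right_injective (by omega) (show q ^ b = q ^ 1 by rw [h, pow_one])
    omega
  have hmod : n % q = 1 := by
    have h := card_sylow_modEq_one q G
    rwa [Nat.ModEq, Nat.one_mod_eq_one.mpr H.prime.ne_one] at h
  obtain ⟨rfl, h96, rfl⟩ := Arith.list H.prime hq5 ha3 hX2 hlist hsq hmod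
  refine not_ninety_six H ?_ h96
  have h3 := hb5 rfl
  by_contra hc
  obtain rfl : b = 3 := by omega
  norm_num at hY1

/-- One class: only three orders are possible. -/
theorem out : One.Out G := by
  rcases H.exponent with h | ⟨hb, hb5, hY, hcase⟩
  · exact h
  exfalso
  obtain ⟨k, -, hk⟩ := H.exists_three
  rcases Set.eq_empty_or_nonempty {M : Subgroup G | MaxInv k M ∧ M ≠ ⊥ ∧ q ∣ Nat.card M} with
    hE | ⟨M, hM, hne, hd⟩
  · exact H.no_q_false hY hb hcase hk hE
  · exact H.q_false hY hb hb5 hcase hk hM hne hd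

end Hyp

end Cfsg.Agent.Lib.NineTwoQ78.OneClass
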