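import Cfsg.Agent.Lib.NineTwoQ78.Main
import Cfsg.Agent.Lib.NineTwoQ78.Loc.Triple
import Cfsg.Agent.Lib.Coprime.Generation
import Cfsg.Agent.Lib.SylowSmall78.Basic

/-!
# One class of elements of order three with a strongly self-centralising Sylow subgroup of order nine
-/

set_option autoImplicit false
set_option linter.style.haveILetI false

namespace Cfsg.Agent.Lib.NineTwoQ78.OneClass

open Subgroup
open Cfsg.Agent.Lib

universe u

variable (G : Type u) [Group G] [Finite G]

/-- The setting. -/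
structure Hyp (q a b : ℕ) (R : Sylow 3 G) : Prop where
  simple : IsSimpleGroup G
  noncomm : ¬ IsMulCommutative G
  prime : q.Prime
  ne2 : q ≠ 2
  ne3 : q ≠ 3
  card : Nat.card G = 9 * 2 ^ a * q ^ b
  cen : ∀ k ∈ (R : Subgroup G), k ≠ 1 → Subgroup.centralizer ({k} : Set G) = R
  exp : ∀ k ∈ (R : Subgroup G), k ^ 3 = 1
  one : ∀ x y : G, orderOf x = 3 → orderOf y = 3 → IsConj x y

variable {G} {q a b : ℕ} {R : Sylow 3 G} (H : Hyp G q a b R)
include H

namespace Hyp

theorem card_sylow (P : Sylow 3 G) : Nat.card (P : Subgroup G) = 9 :=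
  Main.card_sylow H.prime H.ne3 H.card P

theorem comm {x y : G} (hx : x ∈ (R : Subgroup G)) (hy : y ∈ (R : Subgroup G)) : x * y = y * x := by
  by_cases hy1 : y = 1
  · subst hy1; simp
  · exact mem_centralizer_singleton_iff.1 ((H.cen y hy hy1).symm ▸ hx)

theorem exists_mem {z : G} (hz : orderOf z = 3) : ∃ c : G, c * z * c⁻¹ ∈ (R : Subgroup G) := by
  haveI : Fact (Nat.Prime 3) := ⟨Nat.prime_three⟩
  exact FpfBlock.Setting.exists_conj_mem (P := R) ⟨1, by rw [hz, pow_one]⟩

theorem orderOf_of_mem {z : G} (hz : z ∈ (R : Subgroup G)) (hz1 : z ≠ 1) : orderOf z = 3 := by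
  haveI : Fact (Nat.Prime 3) := ⟨Nat.prime_three⟩
  exact orderOf_eq_prime (H.exp z hz) hz1

/-- The centralizer of an element of order three is an elementary abelian group of order nine. -/
theorem centralizer_spec {z : G} (hz : orderOf z = 3) :
    Nat.card (centralizer ({z} : Set G)) = 9 ∧
      (∀ x ∈ centralizer ({z} : Set G), x ^ 3 = 1) ∧
      ∀ x ∈ centralizer ({z} : Set G), ∀ y ∈ centralizer ({z} : Set G), x * y = y * x := by
  obtain ⟨c, hc⟩ := H.exists_mem hz
  have hc1 : c * z * c⁻¹ ≠ 1 := fun e => by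
    rw [conj_eq_one_iff] at e
    simp [e] at hz
  have hC := H.cen _ hc hc1
  have hmem : ∀ x, x ∈ centralizer ({z} : Set G) ↔ c * x * c⁻¹ ∈ (R : Subgroup G) := by
    intro x
    rw [← hC, mem_centralizer_singleton_iff, mem_centralizer_singleton_iff,
      show c * x * c⁻¹ * (c * z * c⁻¹) = c * (x * z) * c⁻¹ by group,
      show c * z * c⁻¹ * (c * x * c⁻¹) = c * (z * x) * c⁻¹ by group, mul_left_inj, mul_right_inj]
  have hmap : (centralizer ({z} : Set G)).map (MulAut.conj c).toMonoidHom = (R : Subgroup G) := by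
    ext y
    refine ⟨?_, fun hy => ⟨c⁻¹ * y * c, (hmem _).2 ?_, by simp [mul_assoc]⟩⟩
    · rintro ⟨x, hx, rfl⟩
      exact (hmem x).1 hx
    · simpa [mul_assoc] using hy
  refine ⟨?_, fun x hx => ?_, fun x hx y hy => ?_⟩
  · rw [← H.card_sylow R, ← hmap, card_map_of_injective (MulEquiv.injective _)]
  · have := H.exp _ ((hmem x).1 hx)
    rw [conj_pow, conj_eq_one_iff] at this
    exact this
  · have h := H.comm ((hmem x).1 hx) ((hmem y).1 hy)
    rw [show c * x * c⁻¹ * (c * y * c⁻¹) = c * (x * y) * c⁻¹ by group,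
      show c * y * c⁻¹ * (c * x * c⁻¹) = c * (y * x) * c⁻¹ by group, mul_left_inj, mul_right_inj] at h
    exact h

theorem wsc {z : G} (hz : orderOf z = 3) : Loc.WSC z where
  ord := hz
  cent y hy := by
    obtain ⟨-, h3, -⟩ := H.centralizer_spec hz
    obtain ⟨k, -, hk⟩ := (Nat.dvd_prime_pow Nat.prime_three).1
      (show orderOf y ∣ 3 ^ 1 from
        (pow_one 3).symm ▸ orderOf_dvd_of_pow_eq_one (h3 y (mem_centralizer_singleton_iff.2 hy)))
    exact ⟨k, hk⟩

/-- No nontrivial `3'`-subgroup is normalised by a centralizer of order nine. -/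
theorem eq_bot_of_le {z : G} (hz : orderOf z = 3) {W : Subgroup G} (hW3 : ¬ 3 ∣ Nat.card W)
    (hle : centralizer ({z} : Set G) ≤ normalizer (W : Set G)) : W = ⊥ := by
  haveI : Fact (Nat.Prime 3) := ⟨Nat.prime_three⟩
  obtain ⟨h9, h3, hcomm⟩ := H.centralizer_spec hz
  set B := centralizer ({z} : Set G)
  haveI : IsMulCommutative B := ⟨⟨fun x y => Subtype.ext (hcomm x x.2 y y.2)⟩⟩
  have hB : ¬ IsCyclic B := by
    intro hc
    obtain ⟨g, hg⟩ := IsCyclic.exists_ofOrder_eq_natCard (α := B)
    rw [h9] at hg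
    have hd : orderOf g ∣ 3 := orderOf_dvd_of_pow_eq_one (Subtype.ext (by simpa using h3 g g.2))
    rw [hg] at hd
    norm_num at hd
  have h := Coprime.iSup_centralizer_eq hB hle (by
    rw [h9, show (9 : ℕ) = 3 ^ 2 by norm_num]
    exact (Nat.prime_three.coprime_iff_not_dvd.2 hW3).pow_left 2)
  rw [← h, eq_bot_iff]
  refine iSup₂_le fun y hy => ?_
  rintro w ⟨hwW, hwC⟩
  have hy3 : orderOf y = 3 := orderOf_eq_prime (h3 y hy.1) hy.2
  obtain ⟨-, h3', -⟩ := H.centralizer_spec hy3
  have hd : orderOf w ∣ 3 := orderOf_dvd_of_pow_eq_one (h3' w hwC)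
  rcases (Nat.dvd_prime Nat.prime_three).1 hd with e | e
  · exact mem_bot.2 (orderOf_eq_one_iff.1 e)
  · exact absurd (e ▸ orderOf_dvd_natCard W hwW) hW3

theorem ctx : Loc.Ctx G where
  simple := H.simple
  noncomm := H.noncomm
  loc L W hW hWL hLW hW3 z hz hzL :=
    { ord := by rw [← hz.ord, ← orderOf_coe]
      cent := fun y hy => by
        by_contra hne
        refine hW (H.eq_bot_of_le hz.ord hW3 ?_)
        obtain ⟨h9, h3, hcomm⟩ := H.centralizer_spec hz.ord
        -- `z` and `y` generate the centralizer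
        have hyC : (y : G) ∈ centralizer ({z} : Set G) :=
          mem_centralizer_singleton_iff.2 (congrArg Subtype.val hy)
        set D := centralizer ({z} : Set G) ⊓ L
        have hzD : z ∈ D := ⟨mem_centralizer_singleton_iff.2 rfl, hzL⟩
        have hlt : zpowers z < D := by
          refine lt_of_le_of_ne (zpowers_le.2 hzD) fun e => hne ?_
          have : (y : G) ∈ zpowers z := e ▸ (⟨hyC, y.2⟩ : (y : G) ∈ D)
          obtain ⟨i, hi⟩ := mem_zpowers_iff.1 this
          exact mem_zpowers_iff.2 ⟨i, Subtype.ext (by simpa using hi)⟩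
        have h3D : 3 < Nat.card D := by
          have h1 : Nat.card (zpowers z) ≤ Nat.card D := card_le_of_le hlt.le
          rcases h1.eq_or_lt with e | e
          · exact absurd (eq_of_le_of_card_ge hlt.le e.ge) hlt.ne
          · rwa [Nat.card_zpowers, hz.ord] at e
        have hd : Nat.card D ∣ 9 :=
          h9 ▸ card_dvd_of_le (inf_le_left : D ≤ centralizer ({z} : Set G))
        have h9D : Nat.card D = 9 := by
          have := Nat.le_of_dvd (by norm_num) hd
          generalize Nat.card D = j at hd h3D this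
          interval_cases j <;> omega
        have hDC : D = centralizer ({z} : Set G) :=
          eq_of_le_of_card_ge inf_le_left (by rw [h9, h9D])
        exact (hDC ▸ inf_le_right : centralizer ({z} : Set G) ≤ L).trans hLW }

/-- Conjugation by an element inverting a given element of order three. -/
theorem card_normalizer_zpowers {z : G} (hz : orderOf z = 3) :
    Nat.card (normalizer ((zpowers z : Subgroup G) : Set G)) = 18 := by
  haveI : Fact (Nat.Prime 3) := ⟨Nat.prime_three⟩
  obtain ⟨h9, -, -⟩ := H.centralizer_spec hz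
  set N := normalizer ((zpowers z : Subgroup G) : Set G)
  have hcases : ∀ g, g ∈ N ↔ g * z * g⁻¹ = z ∨ g * z * g⁻¹ = z⁻¹ := by
    intro g
    constructor
    · intro hg
      have hm := (mem_normalizer_iff.1 hg z).1 (mem_zpowers z)
      obtain ⟨i, hi⟩ := mem_zpowers_iff.1 hm
      have hne : g * z * g⁻¹ ≠ 1 := fun e => by
        rw [conj_eq_one_iff] at e
        simp [e] at hz
      rw [← hi, ← zpow_mod_orderOf, hz] at hne ⊢
      rcases (show i % (3 : ℕ) = 0 ∨ i % (3 : ℕ) = 1 ∨ i % (3 : ℕ) = 2 by omega) with e | e | e <;>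
        rw [e] at hne ⊢
      · exact absurd (zpow_zero z) hne
      · exact Or.inl (zpow_one z)
      · refine Or.inr (eq_inv_of_mul_eq_one_left ?_)
        rw [zpow_two, ← pow_two, ← pow_succ, show (2 + 1) = orderOf z from hz.symm, pow_orderOf_eq_one]
    · intro hg
      rw [mem_normalizer_iff_map_conj_eq, MonoidHom.map_zpowers]
      rcases hg with e | e
      · simp [e]
      · simp [e, zpowers_inv]
  obtain ⟨t, ht⟩ := isConj_iff.1 (H.one z z⁻¹ hz (by rw [orderOf_inv, hz]))
  have hzne : z ≠ z⁻¹ := by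
    intro e
    have : z ^ 2 = 1 := by rw [pow_two]; nth_rw 2 [e]; rw [mul_inv_cancel]
    have := orderOf_dvd_of_pow_eq_one this
    rw [hz] at this
    norm_num at this
  set C := centralizer ({z} : Set G)
  have hCN : C ≤ N := fun g hg => (hcases g).2 (Or.inl
    (mul_inv_eq_iff_eq_mul.2 (mem_centralizer_singleton_iff.1 hg)))
  have htN : t ∈ N := (hcases t).2 (Or.inr ht)
  have hidx : (C.subgroupOf N).index = 2 := by
    rw [index_eq_two_iff]
    refine ⟨⟨t, htN⟩, fun g => ?_⟩
    simp only [mem_subgroupOf, coe_mul]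
    rcases (hcases (g : G)).1 g.2 with e | e
    · refine Or.inr ⟨mem_centralizer_singleton_iff.2 (mul_inv_eq_iff_eq_mul.1 e), fun hm => ?_⟩
      have e' := mul_inv_eq_iff_eq_mul.2 (mem_centralizer_singleton_iff.1 hm)
      rw [show (g : G) * t * z * ((g : G) * t)⁻¹ = ((g : G) * (t * z * t⁻¹) * (g : G)⁻¹) by group,
        ht, ← conj_inv, e] at e'
      exact hzne e'.symm
    · refine Or.inl ⟨mem_centralizer_singleton_iff.2 (mul_inv_eq_iff_eq_mul.1 ?_), fun hm => ?_⟩
      · rw [show (g : G) * t * z * ((g : G) * t)⁻¹ = ((g : G) * (t * z * t⁻¹) * (g : G)⁻¹) by group,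
          ht, ← conj_inv, e, inv_inv]
      · have e' := mul_inv_eq_iff_eq_mul.2 (mem_centralizer_singleton_iff.1 hm)
        exact hzne (e'.symm.trans e)
  have := (C.subgroupOf N).card_mul_index
  rw [Nat.card_congr (subgroupOfEquivOfLe hCN).toEquiv, h9, hidx] at this
  omega

end Hyp

end Cfsg.Agent.Lib.NineTwoQ78.OneClass
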