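import Cfsg.Agent.Lib.NineTwoQ78.OneClass.Chars
import Cfsg.Agent.Lib.Fgs9.TriangleConstants

/-!
# The structure constant of the class of elements of order three
-/

set_option autoImplicit false
set_option linter.style.haveILetI false

namespace Cfsg.Agent.Lib.NineTwoQ78.OneClass

open Subgroup
open Cfsg.Agent.Lib
open Cfsg.Agent.Lib.Spectrum.SelfThree (Inv)
open Cfsg.Agent.Lib.Characters.Basic
open scoped ComplexConjugate

universe u

variable {G : Type u} [Group G] [Finite G] {q a b : ℕ} {R : Sylow 3 G}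

/-- A solution of the class equation lies in the centralizer or over an invariant subgroup. -/
theorem exists_inv_or_mem (H : Hyp G q a b R) {x y : G} (h : Loc.WSC x) (hy : y ^ 3 = 1)
    (hy1 : y ≠ 1) (hxy : (x * y) ^ 3 = 1) :
    y ∈ centralizer ({x} : Set G) ∨ ∃ A : Subgroup G, Inv x A ∧ y * x⁻¹ ∈ A := by
  have hy' : y⁻¹ * y⁻¹ = y := by
    rw [← mul_inv_rev, inv_eq_iff_mul_eq_one, ← hy, pow_succ, pow_two]
  have hx' : x * x = x⁻¹ := by rw [← h.sq_eq, pow_two]
  have h6 : x * y * x * (y * x * y) = 1 := by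
    rw [← hxy, pow_succ, pow_two]; group
  obtain ⟨u, hu⟩ : ∃ u, u = x * y⁻¹ := ⟨_, rfl⟩
  obtain ⟨v, hv⟩ : ∃ v, v = y⁻¹ * x := ⟨_, rfl⟩
  have huv1 : u * v = x * y * x := by
    rw [hu, hv]
    calc x * y⁻¹ * (y⁻¹ * x) = x * (y⁻¹ * y⁻¹) * x := by group
      _ = x * y * x := by rw [hy']
  have hvu1 : v * u = (y * x * y)⁻¹ := by
    rw [hu, hv]
    calc y⁻¹ * x * (x * y⁻¹) = y⁻¹ * (x * x) * y⁻¹ := by group
      _ = (y * x * y)⁻¹ := by rw [hx']; group
  have huv : u * v = v * u := by rw [huv1, hvu1]; exact eq_inv_of_mul_eq_one_left h6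
  let A : Subgroup G := Subgroup.closure {u, v}
  have huA : u ∈ A := Subgroup.subset_closure (Set.mem_insert _ _)
  have hvA : v ∈ A := Subgroup.subset_closure (Set.mem_insert_of_mem _ rfl)
  have hcomm : IsMulCommutative A := by
    refine Subgroup.isMulCommutative_closure ?_
    rintro a (rfl | rfl) b (rfl | rfl)
    · rfl
    · exact huv
    · exact huv.symm
    · rfl
  have hc : ∀ a ∈ A, ∀ b ∈ A, a * b = b * a := fun a ha b hb =>
    congrArg Subtype.val (hcomm.is_comm.comm (⟨a, ha⟩ : A) ⟨b, hb⟩)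
  have hN : x ∈ normalizer (A : Set G) := by
    have h1 : x⁻¹ * u * x = v := by rw [hu, hv]; group
    have h2 : x⁻¹ * v * x = (u * v)⁻¹ := by
      rw [huv1, hv]
      calc x⁻¹ * (y⁻¹ * x) * x = x⁻¹ * y⁻¹ * (x * x) := by group
        _ = (x * y * x)⁻¹ := by rw [hx']; group
    have hle : A ≤ A.comap (MulAut.conj x⁻¹).toMonoidHom := by
      rw [Subgroup.closure_le]
      rintro w (rfl | rfl) <;>
        simp only [SetLike.mem_coe, Subgroup.mem_comap, MulEquiv.coe_toMonoidHom,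
          MulAut.conj_apply, inv_inv]
      · rw [h1]; exact hvA
      · rw [h2]; exact inv_mem (mul_mem huA hvA)
    have : x⁻¹ ∈ normalizer (A : Set G) := by
      apply Subgroup.mem_normalizer_fintype
      intro n hn
      simpa using hle hn
    simpa using inv_mem this
  refine or_iff_not_imp_left.2 fun hyC => ⟨A, ⟨fun h3 => hyC ?_, hN⟩, by
    have := inv_mem huA
    rwa [hu, mul_inv_rev, inv_inv] at this⟩
  have : Fact (Nat.Prime 3) := ⟨Nat.prime_three⟩
  obtain ⟨⟨w, hw⟩, hwo⟩ := exists_prime_orderOf_dvd_card' 3 h3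
  rw [← orderOf_coe] at hwo
  obtain ⟨h9, hexp, hcom⟩ := H.centralizer_spec hwo
  set C := centralizer ({w} : Set G)
  have hAC : A ≤ C := fun v hv => mem_centralizer_singleton_iff.2 (hc v hv w hw)
  have hA3 : IsPGroup 3 A := fun v => ⟨1, Subtype.ext (by simpa using hexp v (hAC v.2))⟩
  have hX : IsPGroup 3 (zpowers x) := IsPGroup.of_card (n := 1) (by rw [Nat.card_zpowers, h.ord, pow_one])
  have hsup : IsPGroup 3 (zpowers x ⊔ A : Subgroup G) :=
    hX.to_sup_of_normal_right' hA3 (zpowers_le.2 hN)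
  obtain ⟨P, hP⟩ := hsup.exists_le_sylow
  have hcm : IsMulCommutative (P : Subgroup G) :=
    IsPGroup.isMulCommutative_of_card_eq_prime_sq (p := 3) (by rw [H.card_sylow P]; rfl)
  have hxP : x ∈ (P : Subgroup G) := hP (mem_sup_left (mem_zpowers x))
  have hxu : u * x = x * u :=
    congrArg Subtype.val (hcm.is_comm.comm (⟨u, hP (mem_sup_right huA)⟩ : (P : Subgroup G)) ⟨x, hxP⟩)
  have hy0 : y = u⁻¹ * x := by rw [hu]; group
  rw [mem_centralizer_singleton_iff, hy0]
  exact ((Commute.inv_left (show Commute u x from hxu)).mul_left (Commute.refl x)).eq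

/-- The nontrivial elements of the invariant subgroups. -/
def Cover (x : G) : Set G := {u | u ≠ 1 ∧ ∃ A : Subgroup G, Inv x A ∧ u ∈ A}

/-- The bound on the structure constant. -/
theorem triangle_le (H : Hyp G q a b R) {k : G} {c : Cfsg.IrrCharacter G → ℤ}
    {d : Cfsg.IrrCharacter G → ℕ} (K : Col H k c d) [Fintype (Cfsg.IrrCharacter G)] :
    ((2 ^ a * q ^ b : ℕ) : ℚ) * ∑ χ, (c χ : ℚ) ^ 3 / d χ ≤
      ((9 * (7 + Nat.card (Cover k)) : ℕ) : ℚ) := by
  classical
  haveI := Fintype.ofFinite G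
  have hk := K.ord
  have hW := H.wsc hk
  obtain ⟨h9, hexp, -⟩ := H.centralizer_spec hk
  have hc := Fgs9.TriangleConstants.card_mul_sum (G := G) k k k
  set S := {a : G // IsConj (k * (a * k * a⁻¹)) k}
  rw [h9] at hc
  have hterm : ∀ χ : Cfsg.IrrCharacter G,
      (χ : G → ℂ) k * (χ : G → ℂ) k * conj ((χ : G → ℂ) k) / (χ : G → ℂ) 1 =
        (((c χ : ℚ) ^ 3 / d χ : ℚ) : ℂ) := by
    intro χ
    rw [K.val, map_intCast, DegreeBounds.Basic.charDegree_irr, ← K.deg]
    push_cast
    ring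
  simp only [hterm, H.card] at hc
  have hS : ((2 ^ a * q ^ b : ℕ) : ℚ) * ∑ χ, (c χ : ℚ) ^ 3 / d χ = (Nat.card S : ℚ) := by
    have : ((((2 ^ a * q ^ b : ℕ) : ℚ) * ∑ χ, (c χ : ℚ) ^ 3 / d χ : ℚ) : ℂ) =
        ((Nat.card S : ℚ) : ℂ) := by
      push_cast at hc ⊢
      linear_combination (1 / 9 : ℂ) * hc
    exact_mod_cast this
  rw [hS]
  refine Nat.cast_le.2 ?_
  set C := centralizer ({k} : Set G)
  set Y := (Finset.univ.filter fun y => y ∈ C ∧ y ≠ 1 ∧ y ≠ k⁻¹) ∪
    (Finset.univ.filter fun y => y * k⁻¹ ∈ Cover k) with hY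
  have hcardY : Y.card ≤ 7 + Nat.card (Cover k) := by
    refine (Finset.card_union_le _ _).trans (Nat.add_le_add ?_ ?_)
    · have h1 : (Finset.univ.filter fun y => y ∈ C ∧ y ≠ 1 ∧ y ≠ k⁻¹) =
          ((Finset.univ.filter fun y => y ∈ C).erase 1).erase k⁻¹ := by
        ext y; simp; tauto
      have hCk : k⁻¹ ∈ C := inv_mem (mem_centralizer_singleton_iff.2 rfl)
      have hne : k⁻¹ ≠ 1 := inv_ne_one.2 hW.ne_one
      rw [h1, Finset.card_erase_of_mem (by simp [hCk, hne, hne.symm]), Finset.card_erase_of_mem (by simp [one_mem]),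
        ← Fintype.card_subtype, ← Nat.card_eq_fintype_card]
      have : Nat.card {y // y ∈ C} = 9 := h9
      omega
    · rw [Nat.card_eq_fintype_card, ← Fintype.card_coe]
      refine Fintype.card_le_of_injective
        (fun y => (⟨y.1 * k⁻¹, (Finset.mem_filter.1 y.2).2⟩ : Cover k)) fun y y' e => ?_
      exact Subtype.ext (mul_right_cancel (congrArg Subtype.val e))
  have hmaps : ∀ s ∈ (Finset.univ : Finset S), s.1 * k * s.1⁻¹ ∈ Y := by
    intro s _
    obtain ⟨g, hg⟩ := isConj_iff.1 s.2.symm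
    set y := s.1 * k * s.1⁻¹
    have hy3 : y ^ 3 = 1 := (hW.conj s.1).pow_three
    have hy1 : y ≠ 1 := (hW.conj s.1).ne_one
    have hxy3 : (k * y) ^ 3 = 1 := hg ▸ (hW.conj g).pow_three
    have hxy1 : k * y ≠ 1 := hg ▸ (hW.conj g).ne_one
    have hyk : y ≠ k⁻¹ := fun e => hxy1 (by rw [e, mul_inv_cancel])
    rw [hY, Finset.mem_union]
    by_cases hyC : y ∈ C
    · exact Or.inl (Finset.mem_filter.2 ⟨Finset.mem_univ _, hyC, hy1, hyk⟩)
    · obtain ⟨A, hA, hmem⟩ := (exists_inv_or_mem H hW hy3 hy1 hxy3).resolve_left hyC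
      refine Or.inr (Finset.mem_filter.2 ⟨Finset.mem_univ _, fun e => hyC ?_, A, hA, hmem⟩)
      rw [mul_inv_eq_one] at e
      rw [e]
      exact mem_centralizer_singleton_iff.2 rfl
  have hle := Finset.card_le_mul_card_image_of_maps_to (f := fun s : S => s.1 * k * s.1⁻¹) hmaps 9
    fun y _ => by
    by_cases hne : ∃ s : S, s.1 * k * s.1⁻¹ = y
    · obtain ⟨s₀, hs₀⟩ := hne
      calc _ ≤ (Finset.univ : Finset C).card := by
            refine Finset.card_le_card_of_injOn
              (fun s => if hs : s₀.1⁻¹ * s.1 ∈ C then (⟨_, hs⟩ : C) else 1)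
              (fun s _ => Finset.mem_univ _) ?_
            have hmem : ∀ s ∈ Finset.univ.filter (fun s : S => s.1 * k * s.1⁻¹ = y),
                s₀.1⁻¹ * s.1 ∈ C := by
              intro s hs
              have e := (Finset.mem_filter.1 hs).2.trans hs₀.symm
              refine mem_centralizer_singleton_iff.2 ?_
              calc s₀.1⁻¹ * s.1 * k = s₀.1⁻¹ * (s.1 * k * s.1⁻¹) * s.1 := by group
                _ = k * (s₀.1⁻¹ * s.1) := by rw [e]; group
            intro s hs s' hs' e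
            simp only [Finset.mem_coe] at hs hs'
            simp only [dif_pos (hmem s hs), dif_pos (hmem s' hs'), Subtype.mk.injEq, mul_right_inj] at e
            exact Subtype.ext e
        _ = 9 := by rw [Finset.card_univ, ← Nat.card_eq_fintype_card, h9]
    · rw [Finset.filter_eq_empty_iff.2 fun s _ e => hne ⟨s, e⟩]
      simp
  rw [Nat.card_eq_fintype_card, ← Finset.card_univ]
  exact hle.trans (Nat.mul_le_mul_left 9 hcardY)

end Cfsg.Agent.Lib.NineTwoQ78.OneClass
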